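import Groth.Agent.Models.DVRGeneric
import Groth.Agent.Sga3B.CellEtAlg
import Groth.Agent.Sga4B.RelDimUnique
import Mathlib.RingTheory.DiscreteValuationRing.Basic
import Mathlib.RingTheory.RingHom.Etale
import Mathlib.RingTheory.Nakayama
import Mathlib.AlgebraicGeometry.Morphisms.Smooth

/-!
# η-étale morphisms over a discrete valuation ring and `p ^ n Ω`
-/

set_option autoImplicit false
universe u

open TensorProduct KaehlerDifferential AlgebraicGeometry

namespace K85.EtaEtale

/-- the rank of the differentials of an algebra smooth of relative dimension `n` -/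
theorem rankAtStalk_of_locally {R A : Type u} [CommRing R] [CommRing A] [Algebra R A]
    [Algebra.Smooth R A] (n : ℕ)
    (h : RingHom.Locally (RingHom.IsStandardSmoothOfRelativeDimension n) (algebraMap R A))
    (q : PrimeSpectrum A) : Module.rankAtStalk Ω[A⁄R] q = n := by
  obtain ⟨s, hs, h⟩ := h
  obtain ⟨f, hf, hfq⟩ : ∃ f ∈ s, f ∉ q.asIdeal := by
    by_contra hcon
    push Not at hcon
    exact q.2.ne_top (top_le_iff.mp (hs ▸ Ideal.span_le.mpr hcon))
  have h1 := h f hf
  rw [← IsScalarTower.algebraMap_eq] at h1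
  have h2 : Algebra.IsStandardSmoothOfRelativeDimension n R (Localization.Away f) :=
    (RingHom.isStandardSmoothOfRelativeDimension_algebraMap n).1 h1
  rw [Module.rankAtStalk_eq]
  refine Groth.Agent.Sga4B.RelDimUnique.finrank_eq q.asIdeal.ResidueField n f ?_ h2
  rwa [Ne, Ideal.algebraMap_residueField_eq_zero]

/-- `p` is a multiple of the uniformizer. -/
theorem dvd_p {V : Type u} [CommRing V] [IsDomain V] [IsDiscreteValuationRing V]
    {ϖ : V} (hϖ : Irreducible ϖ) (p : ℕ) [CharP (IsLocalRing.ResidueField V) p] : ϖ ∣ (p : V) := by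
  have h1 : ((p : V) : V) ∈ IsLocalRing.maximalIdeal V := by
    rw [← IsLocalRing.residue_eq_zero_iff, map_natCast]
    exact CharP.cast_eq_zero _ p
  rwa [(IsDiscreteValuationRing.irreducible_iff_uniformizer ϖ).1 hϖ, Ideal.mem_span_singleton] at h1

variable (V : Type u) [CommRing V] [IsDomain V] [IsDiscreteValuationRing V]
    (ϖ : V) (hϖ : Irreducible ϖ) (p : ℕ)

include hϖ in
/-- If `A → R` is étale on the generic fibre of a neighbourhood of the closed fibre, then `p ^ n Ω`
vanishes along the closed fibre for some `n`. -/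
theorem exists_pow [CharP (IsLocalRing.ResidueField V) p]
    (A : Type u) [CommRing A] [Algebra V A]
    (R : Type u) [CommRing R] [Algebra V R] [Algebra A R] [IsScalarTower V A R]
    [Module.Finite R Ω[R⁄A]] (a : R)
    (ha : Ideal.span {a} ⊔ Ideal.span {algebraMap V R ϖ} = ⊤)
    (het : ((algebraMap R (Localization.Away (a * algebraMap V R ϖ))).comp (algebraMap A R)).Etale) :
    ∃ n : ℕ, Ideal.span {((p : R)) ^ n} • (⊤ : Submodule R (Ω[R⁄A])) ≤
      Ideal.span {algebraMap V R ϖ * (p : R) ^ n} • (⊤ : Submodule R (Ω[R⁄A])) := by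
  classical
  set t := algebraMap V R ϖ with ht
  let T := Localization.Away (a * t)
  rw [← IsScalarTower.algebraMap_eq, RingHom.etale_algebraMap] at het
  have hΩ : Subsingleton Ω[T⁄A] := inferInstance
  have hloc := (IsLocalizedModule.subsingleton_iff (Submonoid.powers (a * t))
    (KaehlerDifferential.map A A R T)).1 hΩ
  -- a uniform exponent
  obtain ⟨m, hm⟩ : ∃ m : ℕ, ∀ w : Ω[R⁄A], (a * t) ^ m • w = 0 := by
    obtain ⟨s, hs⟩ := (Module.Finite.fg_top : (⊤ : Submodule R Ω[R⁄A]).FG)
    have hex : ∀ w : Ω[R⁄A], ∃ m : ℕ, (a * t) ^ m • w = 0 := by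
      intro w
      obtain ⟨_, ⟨m, rfl⟩, hm⟩ := hloc w
      exact ⟨m, hm⟩
    choose f hf using hex
    refine ⟨s.sup f, fun w => ?_⟩
    have hw : w ∈ Submodule.span R (s : Set Ω[R⁄A]) := by rw [hs]; trivial
    induction hw using Submodule.span_induction with
    | mem x hx =>
      obtain ⟨k, hk⟩ := Nat.exists_eq_add_of_le (Finset.le_sup (f := f) hx)
      rw [hk, add_comm, pow_add, mul_smul, hf, smul_zero]
    | zero => simp
    | add x y _ _ hx hy => rw [smul_add, hx, hy, add_zero]
    | smul r x _ hx => rw [smul_comm, hx, smul_zero]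
  obtain ⟨c, hc⟩ := dvd_p hϖ p
  have hcR : (p : R) = t * algebraMap V R c := by
    rw [ht, ← map_mul, ← hc, map_natCast]
  -- `a ^ m` is a unit modulo `ϖ`
  have hco : IsCoprime a t := by
    rw [← Ideal.isCoprime_span_singleton_iff]
    exact (Ideal.isCoprime_iff_sup_eq).2 ha
  obtain ⟨x, y, hxy⟩ := (hco.pow_left (m := m))
  refine ⟨m, ?_⟩
  rw [Submodule.smul_le]
  intro r hr w _
  obtain ⟨b, rfl⟩ := Ideal.mem_span_singleton'.1 hr
  have h0 : a ^ m • ((p : R) ^ m • w) = 0 := by
    rw [smul_smul, hcR, mul_pow, ← mul_assoc, ← mul_pow, mul_comm, mul_smul, hm, smul_zero]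
  have h1 : (b * (p : R) ^ m) • w = (t * (p : R) ^ m) • ((b * y) • w) := by
    have h2 : (p : R) ^ m • w = (t * (p : R) ^ m) • (y • w) := by
      have h3 : (1 : R) • ((p : R) ^ m • w) = (x * a ^ m + y * t) • ((p : R) ^ m • w) := by rw [hxy]
      rw [one_smul, add_smul, mul_smul x, h0, smul_zero, zero_add, smul_smul] at h3
      rw [h3, smul_smul]
      congr 1
      ring
    rw [mul_smul, h2, smul_smul, smul_smul, smul_smul]
    congr 1
    ring
  rw [h1]
  exact Submodule.smul_mem_smul (Ideal.mem_span_singleton_self _) trivial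

omit [IsDomain V] [IsDiscreteValuationRing V] in
/-- If `p ^ n Ω` vanishes along the closed fibre, then some `s ≡ 1 mod ϖ` kills `p ^ n Ω`. -/
theorem exists_smul_eq_zero
    (R : Type u) [CommRing R] [Algebra V R] (Ω : Type u) [AddCommGroup Ω] [Module R Ω]
    [Module.Finite R Ω] (n : ℕ) (h : Ideal.span {((p : R)) ^ n} • (⊤ : Submodule R Ω) ≤
      Ideal.span {algebraMap V R ϖ * (p : R) ^ n} • (⊤ : Submodule R Ω)) :
    ∃ s : R, Ideal.span {s} ⊔ Ideal.span {algebraMap V R ϖ} = ⊤ ∧
      ∀ w : Ω, (s * (p : R) ^ n) • w = 0 := by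
  have hfg : (Ideal.span {((p : R)) ^ n} • (⊤ : Submodule R Ω)).FG :=
    Submodule.FG.smul ⟨{(p : R) ^ n}, by simp⟩ Module.Finite.fg_top
  have hle : Ideal.span {((p : R)) ^ n} • (⊤ : Submodule R Ω) ≤
      Ideal.span {algebraMap V R ϖ} • (Ideal.span {((p : R)) ^ n} • (⊤ : Submodule R Ω)) := by
    rw [← Submodule.mul_smul, Ideal.span_singleton_mul_span_singleton]
    exact h
  obtain ⟨s, hs1, hs2⟩ :=
    Submodule.exists_sub_one_mem_and_smul_eq_zero_of_fg_of_le_smul _ _ hfg hle
  refine ⟨s, ?_, fun w => ?_⟩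
  · rw [Ideal.eq_top_iff_one]
    have h1 : (1 : R) = s - (s - 1) := by ring
    rw [h1]
    exact sub_mem (Ideal.mem_sup_left (Ideal.mem_span_singleton_self s)) (Ideal.mem_sup_right hs1)
  · rw [mul_smul]
    exact hs2 _ (Submodule.smul_mem_smul (Ideal.mem_span_singleton_self _) trivial)

attribute [local instance] Algebra.TensorProduct.rightAlgebra

include hϖ in
/-- If `s p ^ n` kills `Ω[R⁄A]` and both generic fibres are smooth of the same relative dimension, then
`R[1 / (s ϖ)]` is étale over `A`. -/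
theorem etale_of_smul_eq_zero [CharZero V] [Fact p.Prime]
    (A : Type u) [CommRing A] [Algebra V A] 
    (R : Type u) [CommRing R] [Algebra V R] [Algebra A R] [IsScalarTower V A R] (d : ℕ)
    (hA : SmoothOfRelativeDimension d
        (Spec.map (CommRingCat.ofHom (algebraMap (FractionRing V) (FractionRing V ⊗[V] A)))))
    (hR : SmoothOfRelativeDimension d
        (Spec.map (CommRingCat.ofHom (algebraMap (FractionRing V) (FractionRing V ⊗[V] R)))))
    (n : ℕ) (s : R) (hs : ∀ w : Ω[R⁄A], (s * (p : R) ^ n) • w = 0) :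
    ((algebraMap R (Localization.Away (s * algebraMap V R ϖ))).comp (algebraMap A R)).Etale := by
  set K := FractionRing V
  have hK : IsLocalization.Away ϖ K :=
    Groth.Agent.Models.DVRGeneric.isLocalization_away V ϖ hϖ K
  -- smoothness of the generic fibres
  have hA' : Algebra.Smooth K (K ⊗[V] A) := by
    have h1 : Smooth (Spec.map (CommRingCat.ofHom (algebraMap K (K ⊗[V] A)))) :=
      SmoothOfRelativeDimension.smooth d _
    rw [HasRingHomProperty.Spec_iff (P := @Smooth)] at h1
    exact RingHom.smooth_algebraMap.1 h1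
  have hR' : Algebra.Smooth K (K ⊗[V] R) := by
    have h1 : Smooth (Spec.map (CommRingCat.ofHom (algebraMap K (K ⊗[V] R)))) :=
      SmoothOfRelativeDimension.smooth d _
    rw [HasRingHomProperty.Spec_iff (P := @Smooth)] at h1
    exact RingHom.smooth_algebraMap.1 h1
  rw [HasRingHomProperty.Spec_iff (P := @SmoothOfRelativeDimension d)] at hA hR
  -- the algebra structures
  let C := Localization.Away ((1 : K) ⊗ₜ[V] s)
  let _ : Algebra (K ⊗[V] A) (K ⊗[V] R) :=
    (Algebra.TensorProduct.map (AlgHom.id K K) (IsScalarTower.toAlgHom V A R)).toRingHom.toAlgebra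
  have _ : IsScalarTower K (K ⊗[V] A) (K ⊗[V] R) := IsScalarTower.of_algebraMap_eq fun x =>
    ((Algebra.TensorProduct.map (AlgHom.id K K) (IsScalarTower.toAlgHom V A R)).commutes x).symm
  let _ : Algebra A (K ⊗[V] R) := ((algebraMap R (K ⊗[V] R)).comp (algebraMap A R)).toAlgebra
  have _ : IsScalarTower A R (K ⊗[V] R) := IsScalarTower.of_algebraMap_eq fun x => rfl
  have _ : IsScalarTower A (K ⊗[V] A) (K ⊗[V] R) := IsScalarTower.of_algebraMap_eq fun x => by
    change (1 : K) ⊗ₜ[V] algebraMap A R x =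
      Algebra.TensorProduct.map (AlgHom.id K K) (IsScalarTower.toAlgHom V A R) ((1 : K) ⊗ₜ[V] x)
    simp
  have _ : IsScalarTower A R C := IsScalarTower.of_algebraMap_eq fun x => by
    rw [IsScalarTower.algebraMap_apply A (K ⊗[V] R) C, IsScalarTower.algebraMap_apply R (K ⊗[V] R) C,
      IsScalarTower.algebraMap_apply A R (K ⊗[V] R)]
  have _ : IsScalarTower K (K ⊗[V] A) C := IsScalarTower.of_algebraMap_eq (R := K) (S := K ⊗[V] A)
      (A := C) fun x => by
    rw [IsScalarTower.algebraMap_apply (K ⊗[V] A) (K ⊗[V] R) C,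
      IsScalarTower.algebraMap_apply K (K ⊗[V] R) C,
      IsScalarTower.algebraMap_apply K (K ⊗[V] A) (K ⊗[V] R)]
  have _ : IsScalarTower A (K ⊗[V] A) C := IsScalarTower.of_algebraMap_eq (R := A) (S := K ⊗[V] A)
      (A := C) fun x => by
    rw [IsScalarTower.algebraMap_apply (K ⊗[V] A) (K ⊗[V] R) C,
      IsScalarTower.algebraMap_apply A (K ⊗[V] R) C,
      IsScalarTower.algebraMap_apply A (K ⊗[V] A) (K ⊗[V] R)]
  -- localizations
  have hlocA : IsLocalization.Away (algebraMap V A ϖ) (K ⊗[V] A) := by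
    have h1 := IsLocalization.tensorRight (S := A) (A := K) (Submonoid.powers ϖ)
    rwa [Algebra.algebraMapSubmonoid_powers] at h1
  have hlocR : IsLocalization.Away (algebraMap V R ϖ) (K ⊗[V] R) := by
    have h1 := IsLocalization.tensorRight (S := R) (A := K) (Submonoid.powers ϖ)
    rwa [Algebra.algebraMapSubmonoid_powers] at h1
  have hlocC' : IsLocalization.Away (algebraMap R (K ⊗[V] R) s) C :=
    inferInstanceAs (IsLocalization.Away ((1 : K) ⊗ₜ[V] s) C)
  have hlocC : IsLocalization.Away (s * algebraMap V R ϖ) C :=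
    IsLocalization.Away.mul (K ⊗[V] R) C _ _
  -- vanishing of the differentials
  have hΩ : Subsingleton Ω[C⁄A] := by
    rw [IsLocalizedModule.subsingleton_iff (Submonoid.powers (s * algebraMap V R ϖ))
      (KaehlerDifferential.map A A R C)]
    intro w
    obtain ⟨e, u, he⟩ := IsDiscreteValuationRing.eq_unit_mul_pow_irreducible
      (x := (p : V)) (Nat.cast_ne_zero.2 (Fact.out : p.Prime).ne_zero) hϖ
    have he' : algebraMap V R ϖ ^ e = algebraMap V R ((u⁻¹ : Vˣ) : V) * (p : R) := by
      have h1 : ϖ ^ e = ((u⁻¹ : Vˣ) : V) * (p : V) := by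
        rw [he, ← mul_assoc, Units.inv_mul, one_mul]
      rw [← map_pow, h1, map_mul, map_natCast]
    refine ⟨_, ⟨e * n + 1, rfl⟩, ?_⟩
    have h2 : (s * algebraMap V R ϖ) ^ (e * n + 1) =
        (s ^ (e * n) * algebraMap V R ϖ * algebraMap V R ((u⁻¹ : Vˣ) : V) ^ n) *
          (s * (p : R) ^ n) := by
      rw [mul_pow, pow_succ s, pow_succ (algebraMap V R ϖ), pow_mul (algebraMap V R ϖ), he', mul_pow]
      ring
    simp only [h2]
    rw [mul_smul, hs, smul_zero]
  have hΩ' : Subsingleton Ω[C⁄(K ⊗[V] A)] :=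
    (KaehlerDifferential.map_surjective A (K ⊗[V] A) C).subsingleton
  -- étaleness over the generic fibre of `A`
  have hCR : Algebra.Etale (K ⊗[V] R) C := Algebra.Etale.of_isLocalizationAway ((1 : K) ⊗ₜ[V] s)
  have hCs : Algebra.Smooth K C := Algebra.Smooth.comp K (K ⊗[V] R) C
  have : Algebra.FinitePresentation (K ⊗[V] A) C :=
    .of_restrict_scalars_finitePresentation K (K ⊗[V] A) C
  have hetC : Algebra.Etale (K ⊗[V] A) C := by
    rw [← Algebra.etaleLocus_eq_univ_iff_etale]
    refine Set.eq_univ_of_forall fun q => ?_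
    refine Groth.Agent.Sga3B.CellEtAlg.mem_etaleLocus (R := K) q ?_ ?_
    · rw [Module.notMem_support_iff]
      infer_instance
    · have e := KaehlerDifferential.tensorKaehlerEquivOfFormallyEtale K (K ⊗[V] R) C
      rw [← Module.rankAtStalk_eq_of_equiv e, Module.rankAtStalk_baseChange,
        rankAtStalk_of_locally d hA, rankAtStalk_of_locally d hR]
  have hetA : Algebra.Etale A (K ⊗[V] A) := Algebra.Etale.of_isLocalizationAway (algebraMap V A ϖ)
  have hfin : Algebra.Etale A C := Algebra.Etale.comp A (K ⊗[V] A) C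
  rw [← IsScalarTower.algebraMap_eq, RingHom.etale_algebraMap]
  let e : C ≃ₐ[R] Localization.Away (s * algebraMap V R ϖ) :=
    IsLocalization.algEquiv (Submonoid.powers (s * algebraMap V R ϖ)) _ _
  exact Algebra.Etale.of_equiv (e.restrictScalars A)

end K85.EtaEtale
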