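import Groth.Agent.CAlg.K85.EtaEtale
import Groth.Agent.FlatB.AffSpaceSmooth
import Mathlib.RingTheory.Kaehler.Polynomial

/-!
# η-étale morphisms to affine space over a discrete valuation ring
-/

set_option autoImplicit false
universe u

open TensorProduct KaehlerDifferential AlgebraicGeometry

namespace K85.EtaPoly

/-- `Ω[R⁄V] → Ω[R⁄V[T]]` has kernel spanned by the `d x_i`. -/
theorem ker_map {V R : Type u} [CommRing V] [CommRing R] [Algebra V R] {d : ℕ} (x : Fin d → R)
    [Algebra (MvPolynomial (Fin d) V) R] [IsScalarTower V (MvPolynomial (Fin d) V) R]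
    (hx : ∀ i, algebraMap (MvPolynomial (Fin d) V) R (MvPolynomial.X i) = x i) :
    LinearMap.ker (KaehlerDifferential.map V (MvPolynomial (Fin d) V) R R) =
      Submodule.span R (Set.range fun i => D V R (x i)) := by
  rw [← KaehlerDifferential.range_mapBaseChange]
  apply le_antisymm
  · rintro _ ⟨w, rfl⟩
    induction w using TensorProduct.induction_on with
    | zero => rw [map_zero]; exact zero_mem _
    | add a b ha hb => rw [map_add]; exact add_mem ha hb
    | tmul r w =>
      rw [mapBaseChange_tmul]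
      refine Submodule.smul_mem _ _ ?_
      have hw : w ∈ Submodule.span (MvPolynomial (Fin d) V)
          (Set.range (mvPolynomialBasis V (Fin d))) := by
        rw [(mvPolynomialBasis V (Fin d)).span_eq]; trivial
      induction hw using Submodule.span_induction with
      | mem w hw =>
        obtain ⟨i, rfl⟩ := hw
        rw [mvPolynomialBasis_apply, KaehlerDifferential.map_D, hx]
        exact Submodule.subset_span ⟨i, rfl⟩
      | zero => rw [map_zero]; exact zero_mem _
      | add a b _ _ ha hb => rw [map_add]; exact add_mem ha hb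
      | smul c a _ ha =>
        rw [map_smul, ← algebraMap_smul R c]
        exact Submodule.smul_mem _ _ ha
  · rw [Submodule.span_le]
    rintro _ ⟨i, rfl⟩
    refine ⟨1 ⊗ₜ D V (MvPolynomial (Fin d) V) (MvPolynomial.X i), ?_⟩
    rw [mapBaseChange_tmul, one_smul, KaehlerDifferential.map_D, hx]

/-- Translation of the vanishing of `p ^ n Ω` along the closed fibre. -/
theorem le_iff {V R : Type u} [CommRing V] [CommRing R] [Algebra V R] {d : ℕ} (x : Fin d → R)
    [Algebra (MvPolynomial (Fin d) V) R] [IsScalarTower V (MvPolynomial (Fin d) V) R]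
    (hx : ∀ i, algebraMap (MvPolynomial (Fin d) V) R (MvPolynomial.X i) = x i) (I J : Ideal R) :
    I • (⊤ : Submodule R Ω[R⁄(MvPolynomial (Fin d) V)]) ≤
      J • (⊤ : Submodule R Ω[R⁄(MvPolynomial (Fin d) V)]) ↔
    I • (⊤ : Submodule R Ω[R⁄V]) ≤ J • (⊤ : Submodule R Ω[R⁄V]) ⊔
      Submodule.span R (Set.range fun i => D V R (x i)) := by
  have hr : (⊤ : Submodule R Ω[R⁄(MvPolynomial (Fin d) V)]) =
      Submodule.map (KaehlerDifferential.map V (MvPolynomial (Fin d) V) R R) ⊤ := by
    rw [Submodule.map_top]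
    exact (LinearMap.range_eq_top.2
      (KaehlerDifferential.map_surjective V (MvPolynomial (Fin d) V) R)).symm
  rw [hr, ← Submodule.map_smul'', ← Submodule.map_smul'', Submodule.map_le_iff_le_comap,
    Submodule.comap_map_eq, ker_map x hx]

variable (V : Type u) [CommRing V] [IsDomain V] [IsDiscreteValuationRing V] [CharZero V]
    (ϖ : V) (hϖ : Irreducible ϖ) (p : ℕ) [Fact p.Prime] [CharP (IsLocalRing.ResidueField V) p]

omit [IsDomain V] [IsDiscreteValuationRing V] [CharZero V] in
theorem smoothOfRelativeDimension_generic (K : Type u) [Field K] [Algebra V K] (d : ℕ) :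
    SmoothOfRelativeDimension d
      (Spec.map (CommRingCat.ofHom (algebraMap K (K ⊗[V] (MvPolynomial (Fin d) V))))) := by
  have h0 : Algebra.IsStandardSmoothOfRelativeDimension d V (MvPolynomial (Fin d) V) :=
    Groth.Agent.FlatB.AffSpaceSmooth.isStandardSmoothOfRelativeDimension V d
  have h : (algebraMap K (K ⊗[V] (MvPolynomial (Fin d) V))).IsStandardSmoothOfRelativeDimension d := by
    rw [RingHom.isStandardSmoothOfRelativeDimension_algebraMap]
    infer_instance
  rw [HasRingHomProperty.Spec_iff (P := @SmoothOfRelativeDimension d)]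
  exact RingHom.locally_of RingHom.isStandardSmoothOfRelativeDimension_respectsIso _ h

include hϖ

omit [CharZero V] [Fact (Nat.Prime p)] in
/-- η-étale ⟹ `p ^ n Ω` vanishes along the closed fibre -/
theorem exists_pow (R : Type u) [CommRing R] [Algebra V R] [Algebra.FiniteType V R] (d : ℕ)
    (x : Fin d → R) (hx : (∃ a : R, Ideal.span {a} ⊔ Ideal.span {algebraMap V R ϖ} = ⊤ ∧
        ((algebraMap R (Localization.Away (a * algebraMap V R ϖ))).comp
          (MvPolynomial.aeval x : MvPolynomial (Fin d) V →ₐ[V] R).toRingHom).Etale)) :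
    ∃ n : ℕ, Ideal.span {((p : R)) ^ n} • (⊤ : Submodule R (Ω[R⁄V])) ≤
      Ideal.span {algebraMap V R ϖ * (p : R) ^ n} • (⊤ : Submodule R (Ω[R⁄V])) ⊔
        Submodule.span R (Set.range fun i => KaehlerDifferential.D V R (x i)) := by
  let φ : MvPolynomial (Fin d) V →ₐ[V] R := MvPolynomial.aeval x
  let _ : Algebra (MvPolynomial (Fin d) V) R := φ.toRingHom.toAlgebra
  have _ : IsScalarTower V (MvPolynomial (Fin d) V) R :=
    IsScalarTower.of_algebraMap_eq fun x => (φ.commutes x).symm
  have hfinA : Algebra.FiniteType (MvPolynomial (Fin d) V) R :=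
    Algebra.FiniteType.of_restrictScalars_finiteType V _ R
  obtain ⟨a, ha, het⟩ := hx
  obtain ⟨n, hn⟩ := K85.EtaEtale.exists_pow V ϖ hϖ p (MvPolynomial (Fin d) V) R a ha het
  exact ⟨n, (le_iff x (fun i => MvPolynomial.aeval_X x i) _ _).1 hn⟩

omit [CharP (IsLocalRing.ResidueField V) p] in
/-- If `p ^ n Ω` vanishes along the closed fibre and the generic fibre is smooth of relative
dimension `d`, then the morphism to affine `d`-space is η-étale. -/
theorem etale_of_pow (R : Type u) [CommRing R] [Algebra V R] [Algebra.FiniteType V R] (d : ℕ)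
    (hR : SmoothOfRelativeDimension d
        (Spec.map (CommRingCat.ofHom (algebraMap (FractionRing V) (FractionRing V ⊗[V] R)))))
    (x : Fin d → R) (n : ℕ) (h : Ideal.span {((p : R)) ^ n} • (⊤ : Submodule R (Ω[R⁄V])) ≤
      Ideal.span {algebraMap V R ϖ * (p : R) ^ n} • (⊤ : Submodule R (Ω[R⁄V])) ⊔
        Submodule.span R (Set.range fun i => KaehlerDifferential.D V R (x i))) :
    ∃ a : R, Ideal.span {a} ⊔ Ideal.span {algebraMap V R ϖ} = ⊤ ∧
        ((algebraMap R (Localization.Away (a * algebraMap V R ϖ))).comp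
          (MvPolynomial.aeval x : MvPolynomial (Fin d) V →ₐ[V] R).toRingHom).Etale := by
  let φ : MvPolynomial (Fin d) V →ₐ[V] R := MvPolynomial.aeval x
  let _ : Algebra (MvPolynomial (Fin d) V) R := φ.toRingHom.toAlgebra
  have _ : IsScalarTower V (MvPolynomial (Fin d) V) R :=
    IsScalarTower.of_algebraMap_eq fun x => (φ.commutes x).symm
  have hfinA : Algebra.FiniteType (MvPolynomial (Fin d) V) R :=
    Algebra.FiniteType.of_restrictScalars_finiteType V _ R
  obtain ⟨s, hs1, hs2⟩ := K85.EtaEtale.exists_smul_eq_zero V ϖ p R Ω[R⁄(MvPolynomial (Fin d) V)] n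
    ((le_iff x (fun i => MvPolynomial.aeval_X x i) _ _).2 h)
  exact ⟨s, hs1, K85.EtaEtale.etale_of_smul_eq_zero V ϖ hϖ p (MvPolynomial (Fin d) V) R d
    (smoothOfRelativeDimension_generic V (FractionRing V) d) hR n s hs2⟩

end K85.EtaPoly
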