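import Mathlib.RingTheory.Kaehler.Basic
import Mathlib.RingTheory.Kaehler.Polynomial
import Mathlib.RingTheory.Etale.Kaehler
import Mathlib.RingTheory.RingHom.Etale
import Mathlib.RingTheory.Localization.Away.Basic

/-!
# Functions defining an étale morphism to the line and derivations
-/

set_option autoImplicit false
universe u

namespace K85.EtaleLine

open KaehlerDifferential TensorProduct

/-- `Ω[T⁄V] → Ω[T⁄V[X]]` has kernel spanned by `d f`. -/
theorem ker_map_le {V T : Type u} [CommRing V] [CommRing T] [Algebra V T]
    [Algebra (Polynomial V) T] [IsScalarTower V (Polynomial V) T] :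
    LinearMap.ker (KaehlerDifferential.map V (Polynomial V) T T) ≤
      Submodule.span T {D V T (algebraMap (Polynomial V) T Polynomial.X)} := by
  rw [← KaehlerDifferential.range_mapBaseChange]
  rintro _ ⟨w, rfl⟩
  induction w using TensorProduct.induction_on with
  | zero => rw [map_zero]; exact zero_mem _
  | add a b ha hb => rw [map_add]; exact add_mem ha hb
  | tmul r w =>
    rw [mapBaseChange_tmul]
    refine Submodule.smul_mem _ _ ?_
    have hw : w ∈ Submodule.span (Polynomial V) (Set.range (D V (Polynomial V))) := by
      rw [KaehlerDifferential.span_range_derivation]; trivial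
    induction hw using Submodule.span_induction with
    | mem w hw =>
      obtain ⟨p, rfl⟩ := hw
      rw [KaehlerDifferential.map_D]
      have hpow : ∀ p : Polynomial V, D V T (algebraMap (Polynomial V) T p) ∈
          Submodule.span T {D V T (algebraMap (Polynomial V) T Polynomial.X)} := by
        intro p
        induction p using Polynomial.induction_on with
        | C a =>
          change D V T (algebraMap (Polynomial V) T (algebraMap V (Polynomial V) a)) ∈ _
          rw [← IsScalarTower.algebraMap_apply, Derivation.map_algebraMap]
          exact zero_mem _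
        | add p q hp hq => rw [map_add, map_add]; exact add_mem hp hq
        | monomial n a ih =>
          rw [pow_succ, ← mul_assoc, map_mul, Derivation.leibniz]
          exact add_mem (Submodule.smul_mem _ _ (Submodule.mem_span_singleton_self _))
            (Submodule.smul_mem _ _ ih)
      exact hpow p
    | zero => rw [map_zero]; exact zero_mem _
    | add a b _ _ ha hb => rw [map_add]; exact add_mem ha hb
    | smul c a _ ha =>
      rw [map_smul, ← algebraMap_smul T c]
      exact Submodule.smul_mem _ _ ha

/-- If `f` is étale over the line after inverting `t` then every derivation `θ` of `B` satisfies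
`t ^ m θ u ∈ (θ f)`. -/
theorem exists_pow_mul {V B : Type u} [CommRing V] [CommRing B] [Algebra V B] (t f : B)
    (hf : ((algebraMap B (Localization.Away t)).comp
      (Polynomial.aeval f : Polynomial V →ₐ[V] B).toRingHom).Etale)
    (θ : Derivation V B B) (u : B) : ∃ (m : ℕ) (c : B), t ^ m * θ u = c * θ f := by
  let T := Localization.Away t
  let φ : Polynomial V →ₐ[V] B := Polynomial.aeval f
  let _ : Algebra (Polynomial V) T := ((algebraMap B T).comp φ.toRingHom).toAlgebra
  have _ : IsScalarTower V (Polynomial V) T := IsScalarTower.of_algebraMap_eq fun v => by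
    change algebraMap V T v = algebraMap B T (φ (algebraMap V (Polynomial V) v))
    rw [φ.commutes, ← IsScalarTower.algebraMap_apply]
  have het : Algebra.Etale (Polynomial V) T := hf
  have hΩ : Subsingleton Ω[T⁄(Polynomial V)] := inferInstance
  have hX : algebraMap (Polynomial V) T Polynomial.X = algebraMap B T f := by
    change algebraMap B T (φ Polynomial.X) = _
    rw [Polynomial.aeval_X]
  have h1 : D V T (algebraMap B T u) ∈ Submodule.span T {D V T (algebraMap B T f)} := by
    rw [← hX]
    apply ker_map_le
    exact Subsingleton.elim _ _
  obtain ⟨c, hc⟩ := Submodule.mem_span_singleton.1 h1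
  obtain ⟨⟨c', ⟨_, j, rfl⟩⟩, hc'⟩ := IsLocalization.surj (Submonoid.powers t) c
  simp only at hc'
  have h2 : KaehlerDifferential.map V V B T (t ^ j • D V B u - c' • D V B f) = 0 := by
    rw [map_sub, map_smul, map_smul, KaehlerDifferential.map_D, KaehlerDifferential.map_D, ← hc,
      ← algebraMap_smul T (t ^ j), ← algebraMap_smul T c', ← hc', smul_smul, mul_comm, sub_self]
  rw [IsLocalizedModule.eq_zero_iff (Submonoid.powers t)] at h2
  obtain ⟨⟨_, m, rfl⟩, hm⟩ := h2
  have h3 := congrArg θ.liftKaehlerDifferential hm
  rw [map_zero] at h3
  change θ.liftKaehlerDifferential (t ^ m • (t ^ j • D V B u - c' • D V B f)) = 0 at h3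
  rw [map_smul, map_sub, map_smul, map_smul, Derivation.liftKaehlerDifferential_comp_D,
    Derivation.liftKaehlerDifferential_comp_D, smul_eq_mul, smul_eq_mul, smul_eq_mul, mul_sub,
    sub_eq_zero] at h3
  refine ⟨m + j, t ^ m * c', ?_⟩
  rw [pow_add, mul_assoc, h3, mul_assoc]

end K85.EtaleLine
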