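import Groth.Agent.CAlg.K85.NoetherPow
import Groth.Agent.FlatA.DimFin
import Mathlib.RingTheory.DiscreteValuationRing.Basic
import Mathlib.RingTheory.UniqueFactorizationDomain.Multiplicity
import Mathlib.RingTheory.Localization.FractionRing
import Mathlib.RingTheory.Localization.Integral
import Mathlib.RingTheory.Flat.TorsionFree
import Mathlib.RingTheory.FiniteStability
import Mathlib.RingTheory.MvPolynomial.Localization
import Mathlib.RingTheory.LocalRing.ResidueField.Basic

/-!
# The special fibre of a flat algebra over a discrete valuation ring is no bigger than the generic one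
-/

set_option autoImplicit false
universe u v w

namespace K85.FibreDim

open MvPolynomial TensorProduct

attribute [local instance] MvPolynomial.algebraMvPolynomial

theorem aeval_map_one_tmul {V : Type u} [CommRing V] {R : Type v} [CommRing R] [Algebra V R]
    (k : Type w) [CommRing k] [Algebra V k] {n : ℕ} (z : Fin n → R) (f : MvPolynomial (Fin n) V) :
    aeval (fun i => (1 : k) ⊗ₜ[V] z i) (map (algebraMap V k) f) = (1 : k) ⊗ₜ[V] (aeval z f) := by
  induction f using MvPolynomial.induction_on with
  | C a =>
    rw [map_C, algHom_C, algHom_C, Algebra.TensorProduct.algebraMap_apply, Algebra.algebraMap_self,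
      RingHom.id_apply, Algebra.algebraMap_eq_smul_one (A := R) a,
      Algebra.algebraMap_eq_smul_one (A := k) a, smul_tmul]
  | add f g hf hg => rw [map_add, map_add, map_add, hf, hg, tmul_add]
  | mul_X f i hf =>
    rw [map_mul, map_mul, map_mul, hf, map_X, aeval_X, aeval_X, Algebra.TensorProduct.tmul_mul_tmul,
      mul_one]

/-- The special fibre of a flat algebra over a discrete valuation ring has dimension at most the
dimension of the generic fibre. -/
theorem ringKrullDim_special_le (V : Type u) [CommRing V] [IsDomain V] [IsDiscreteValuationRing V]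
    (R : Type u) [CommRing R] [Algebra V R] [Module.Flat V R] [Algebra.FiniteType V R] (d : ℕ)
    (hη : ringKrullDim (FractionRing V ⊗[V] R) ≤ d) :
    ringKrullDim (IsLocalRing.ResidueField V ⊗[V] R) ≤ d := by
  set k := IsLocalRing.ResidueField V
  set K := FractionRing V
  rcases subsingleton_or_nontrivial (k ⊗[V] R) with hsub | hnt
  · rw [ringKrullDim_eq_bot_of_subsingleton]
    exact bot_le
  obtain ⟨s, g, hg, -, hdim⟩ := Groth.Agent.FlatA.DimFin.exists_noether k (k ⊗[V] R)
  rw [hdim]
  by_contra hlt
  have hds : d < s := by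
    by_contra h
    exact hlt (by exact_mod_cast (not_lt.1 h))
  -- lift the generators
  have hsurj : Function.Surjective (Algebra.TensorProduct.includeRight : R →ₐ[V] k ⊗[V] R) := by
    intro y
    induction y using TensorProduct.induction_on with
    | zero => exact ⟨0, map_zero _⟩
    | add a b ha hb =>
      obtain ⟨a', rfl⟩ := ha
      obtain ⟨b', rfl⟩ := hb
      exact ⟨a' + b', map_add _ _ _⟩
    | tmul a r =>
      obtain ⟨c, rfl⟩ := IsLocalRing.residue_surjective (R := V) a
      refine ⟨c • r, ?_⟩
      rw [Algebra.TensorProduct.includeRight_apply, ← smul_tmul]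
      congr 1
      rw [Algebra.smul_def, mul_one]
      rfl
  choose z hz using fun i => hsurj (g (X i))
  -- an algebraic relation over the fraction field
  have hni := K85.NoetherPow.not_injective (k := K) (B := K ⊗[V] R) hη hds
    (fun i => (1 : K) ⊗ₜ[V] z i)
  rw [injective_iff_map_eq_zero] at hni
  push Not at hni
  obtain ⟨f, hf, hf0⟩ := hni
  -- clear denominators
  obtain ⟨⟨f₁, ⟨_, ⟨t, ht, rfl⟩⟩⟩, hft⟩ := IsLocalization.surj
    ((nonZeroDivisors V).map (C : V →+* MvPolynomial (Fin s) V)) f
  simp only [algebraMap_def] at hft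
  have hinjK : Function.Injective (map (algebraMap V K) : MvPolynomial (Fin s) V →+* _) :=
    map_injective _ (IsFractionRing.injective V K)
  have hf₁ : f₁ ≠ 0 := by
    rintro rfl
    rw [map_zero, map_C] at hft
    rcases mul_eq_zero.1 hft with h | h
    · exact hf0 h
    · rw [map_eq_zero_iff _ (C_injective _ _),
        map_eq_zero_iff _ (IsFractionRing.injective V K)] at h
      exact nonZeroDivisors.ne_zero ht h
  have hzero₁ : aeval z f₁ = 0 := by
    have h1 : (1 : K) ⊗ₜ[V] (aeval z f₁) = 0 := by
      rw [← aeval_map_one_tmul, ← hft, map_mul, hf, zero_mul]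
    have h2 : Function.Injective (fun r : R => (1 : K) ⊗ₜ[V] r) :=
      Algebra.TensorProduct.includeRight_injective (IsFractionRing.injective V K)
    exact h2 (by simpa using h1)
  -- make the relation primitive
  obtain ⟨ϖ, hϖ⟩ := IsDiscreteValuationRing.exists_irreducible V
  have hCϖ : ¬ IsUnit (C ϖ : MvPolynomial (Fin s) V) := by
    intro h
    have h1 := h.map (constantCoeff (σ := Fin s) (R := V))
    rw [constantCoeff_C] at h1
    exact hϖ.not_isUnit h1
  obtain ⟨e, f₂, hf₂, rfl⟩ := WfDvdMonoid.max_power_factor' hf₁ hCϖ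
  have hzero₂ : aeval z f₂ = 0 := by
    rw [map_mul, map_pow, algHom_C, ← map_pow, ← Algebra.smul_def] at hzero₁
    have htf : Module.IsTorsionFree V R := inferInstance
    exact (smul_eq_zero.1 hzero₁).resolve_left (pow_ne_zero _ hϖ.ne_zero)
  -- reduce
  have hred : g (map (algebraMap V k) f₂) = 0 := by
    have h1 : g = aeval (fun i => (1 : k) ⊗ₜ[V] z i) := by
      ext i
      rw [aeval_X]
      exact (hz i).symm
    rw [h1, aeval_map_one_tmul, hzero₂, tmul_zero]
  have h3 : map (algebraMap V k) f₂ = 0 := hg (by rw [hred, map_zero])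
  apply hf₂
  rw [C_dvd_iff_map_hom_eq_zero (algebraMap V k) ϖ (fun r => ?_) f₂]
  · exact h3
  · rw [← Ideal.mem_span_singleton, ← (IsDiscreteValuationRing.irreducible_iff_uniformizer ϖ).1 hϖ]
    exact IsLocalRing.residue_eq_zero_iff r

end K85.FibreDim
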