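import Groth.Agent.Ega3A.FiberRank
import Mathlib.LinearAlgebra.FiniteDimensional.Lemmas
import Mathlib.LinearAlgebra.Dimension.Free

/-!
# `dim ker (δ ⊗ κ(x)) + rank F = dim M(x) + dim C(x)` for `δ : M → F`, `C = coker δ`.
-/

set_option autoImplicit false
universe u v

namespace K85.KerRank

open TensorProduct Groth.Agent.Ega3A.FiberRank

variable {A : Type u} [CommRing A] {M F : Type v} [AddCommGroup M] [Module A M] [Module.Finite A M]
    [AddCommGroup F] [Module A F] [Module.Finite A F] [Module.Free A F] (δ : M →ₗ[A] F)

theorem finrank_ker_add (x : PrimeSpectrum A) :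
    Module.finrank x.asIdeal.ResidueField (LinearMap.ker (δ.baseChange x.asIdeal.ResidueField)) +
      Module.finrank A F = fiberRank M x + fiberRank (F ⧸ LinearMap.range δ) x := by
  have hA : Nontrivial A := (algebraMap A x.asIdeal.ResidueField).domain_nontrivial
  let κ := x.asIdeal.ResidueField
  have h1 := LinearMap.finrank_range_add_finrank_ker (δ.baseChange κ)
  have h2 := LinearMap.finrank_range_add_finrank_ker ((LinearMap.range δ).mkQ.baseChange κ)
  have h3 : Function.Surjective ((LinearMap.range δ).mkQ.baseChange κ) := by
    rw [LinearMap.baseChange_eq_ltensor]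
    exact LinearMap.lTensor_surjective _ (Submodule.mkQ_surjective _)
  have h4 : LinearMap.ker ((LinearMap.range δ).mkQ.baseChange κ) =
      LinearMap.range (δ.baseChange κ) := by
    ext t
    have := lTensor_exact κ (LinearMap.exact_map_mkQ_range δ) (Submodule.mkQ_surjective _) t
    rw [LinearMap.mem_ker, LinearMap.baseChange_eq_ltensor, this]
    rfl
  rw [LinearMap.range_eq_top.2 h3, finrank_top, h4] at h2
  have h5 : Module.finrank κ (κ ⊗[A] F) = Module.finrank A F := Module.finrank_baseChange
  change Module.finrank κ (LinearMap.ker (δ.baseChange κ)) + Module.finrank A F =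
    Module.finrank κ (κ ⊗[A] M) + Module.finrank κ (κ ⊗[A] (F ⧸ LinearMap.range δ))
  omega

end K85.KerRank
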