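import Groth.Agent.CAlg.K85.LHorse
import Mathlib.Algebra.Homology.Refinements

/-! Long exact sequence of left derived functors `Functor.leftDerived`. -/

set_option autoImplicit false
set_option backward.isDefEq.respectTransparency false
universe v u v' u'

open CategoryTheory CategoryTheory.Limits CategoryTheory.Category
open K85.LHorse

namespace K85.LDerLES

variable {C : Type u} [Category.{v} C] [Abelian C] [HasProjectiveResolutions C]
variable {D : Type u'} [Category.{v'} D] [Abelian D] (G : C ⥤ D) [G.Additive]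

section Additive

theorem projectiveResolutions_additive : (projectiveResolutions C).Additive where
  map_add {X Y f g} := by
    change (HomotopyCategory.quotient _ _).map _ = (HomotopyCategory.quotient _ _).map _ +
      (HomotopyCategory.quotient _ _).map _
    rw [← Functor.map_add]
    apply HomotopyCategory.eq_of_homotopy
    apply ProjectiveResolution.liftHomotopy (f + g)
    · simp
    · simp

theorem leftDerived_additive (n : ℕ) : (G.leftDerived n).Additive := by
  have := projectiveResolutions_additive (C := C)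
  unfold Functor.leftDerived Functor.leftDerivedToHomotopyCategory
  infer_instance

end Additive

section LES

variable {S : ShortComplex C} (hS : S.ShortExact)

/-- The short exact sequence of complexes computing the left derived functors. -/
noncomputable def rsc : ShortComplex (ChainComplex D ℕ) :=
  (sc hS (projectiveResolution S.X₁) (projectiveResolution S.X₃)).map
    (G.mapHomologicalComplex (ComplexShape.down ℕ))

lemma rsc_shortExact : (rsc G hS).ShortExact := tsc_map_shortExact _ _ _ _ G

/-- Comparison of the first term. -/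
noncomputable def e₁ (n : ℕ) : (G.leftDerived n).obj S.X₁ ≅ (rsc G hS).X₁.homology n :=
  (projectiveResolution S.X₁).isoLeftDerivedObj G n

/-- Comparison of the middle term. -/
noncomputable def e₂ (n : ℕ) : (G.leftDerived n).obj S.X₂ ≅ (rsc G hS).X₂.homology n :=
  (midRes hS (projectiveResolution S.X₁) (projectiveResolution S.X₃)).isoLeftDerivedObj G n

/-- Comparison of the third term. -/
noncomputable def e₃ (n : ℕ) : (G.leftDerived n).obj S.X₃ ≅ (rsc G hS).X₃.homology n :=
  (projectiveResolution S.X₃).isoLeftDerivedObj G n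

lemma e₁_f (n : ℕ) : (G.leftDerived n).map S.f ≫ (e₂ G hS n).hom =
    (e₁ G hS n).hom ≫ HomologicalComplex.homologyMap (rsc G hS).f n := by
  refine ProjectiveResolution.isoLeftDerivedObj_hom_naturality S.f (projectiveResolution S.X₁)
    (midRes hS (projectiveResolution S.X₁) (projectiveResolution S.X₃))
    (sc hS (projectiveResolution S.X₁) (projectiveResolution S.X₃)).f ?_ G n
  have h : (midRes hS (projectiveResolution S.X₁) (projectiveResolution S.X₃)).π.f 0 =
    aug hS (projectiveResolution S.X₁) (projectiveResolution S.X₃) := resOf_π_f_zero _ _ _ _ _ _ _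
  rw [h]
  change biprod.inl ≫ biprod.desc _ _ = (projectiveResolution S.X₁).π.f 0 ≫ S.f
  rw [biprod.inl_desc]

lemma e₂_g (n : ℕ) : (G.leftDerived n).map S.g ≫ (e₃ G hS n).hom =
    (e₂ G hS n).hom ≫ HomologicalComplex.homologyMap (rsc G hS).g n := by
  refine ProjectiveResolution.isoLeftDerivedObj_hom_naturality S.g
    (midRes hS (projectiveResolution S.X₁) (projectiveResolution S.X₃)) (projectiveResolution S.X₃)
    (sc hS (projectiveResolution S.X₁) (projectiveResolution S.X₃)).g ?_ G n
  have h : (midRes hS (projectiveResolution S.X₁) (projectiveResolution S.X₃)).π.f 0 =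
    aug hS (projectiveResolution S.X₁) (projectiveResolution S.X₃) := resOf_π_f_zero _ _ _ _ _ _ _
  rw [h]
  change biprod.snd ≫ (projectiveResolution S.X₃).π.f 0 = biprod.desc _ _ ≫ S.g
  apply biprod.hom_ext' <;> simp

/-- The connecting morphism. -/
noncomputable def δ (n : ℕ) : (G.leftDerived (n + 1)).obj S.X₃ ⟶ (G.leftDerived n).obj S.X₁ :=
  (e₃ G hS (n + 1)).hom ≫ (rsc_shortExact G hS).δ (n + 1) n (by simp) ≫ (e₁ G hS n).inv

lemma δ_comp (n : ℕ) : δ G hS n ≫ (G.leftDerived n).map S.f = 0 := by
  rw [← cancel_mono (e₂ G hS n).hom]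
  simp only [δ, Category.assoc, e₁_f, Iso.inv_hom_id_assoc, zero_comp]
  rw [ShortComplex.ShortExact.δ_comp, comp_zero]

lemma comp_δ (n : ℕ) : (G.leftDerived (n + 1)).map S.g ≫ δ G hS n = 0 := by
  simp only [δ, ← Category.assoc, e₂_g]
  simp

lemma map_comp_zero (n : ℕ) : (G.leftDerived n).map S.f ≫ (G.leftDerived n).map S.g = 0 := by
  have := leftDerived_additive G n
  rw [← Functor.map_comp, S.zero, Functor.map_zero]

/-- Exactness at `L_n G X₁`. -/
lemma exact₁ (n : ℕ) : (ShortComplex.mk _ _ (δ_comp G hS n)).Exact := by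
  refine (ShortComplex.exact_iff_of_iso (ShortComplex.isoMk (e₃ G hS (n + 1)) (e₁ G hS n)
    (e₂ G hS n) ?_ ?_)).2 ((rsc_shortExact G hS).homology_exact₁ (n + 1) n (by simp))
  · simp [δ]
  · exact (e₁_f G hS n).symm

include hS in
/-- Exactness at `L_n G X₂`. -/
lemma exact₂ (n : ℕ) : (ShortComplex.mk _ _ (map_comp_zero G (S := S) n)).Exact := by
  refine (ShortComplex.exact_iff_of_iso (ShortComplex.isoMk (e₁ G hS n) (e₂ G hS n)
    (e₃ G hS n) ?_ ?_)).2 ((rsc_shortExact G hS).homology_exact₂ n)
  · exact (e₁_f G hS n).symm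
  · exact (e₂_g G hS n).symm

/-- Exactness at `L_{n+1} G X₃`. -/
lemma exact₃ (n : ℕ) : (ShortComplex.mk _ _ (comp_δ G hS n)).Exact := by
  refine (ShortComplex.exact_iff_of_iso (ShortComplex.isoMk (e₂ G hS (n + 1)) (e₃ G hS (n + 1))
    (e₁ G hS n) ?_ ?_)).2 ((rsc_shortExact G hS).homology_exact₃ (n + 1) n (by simp))
  · exact (e₂_g G hS (n + 1)).symm
  · simp [δ]

include hS in
/-- Right exactness in degree zero. -/
lemma epi_zero : Epi ((G.leftDerived 0).map S.g) := by
  have h : Epi (HomologicalComplex.homologyMap (rsc G hS).g 0) := by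
    have h1 := rsc_shortExact G hS
    have : Epi (rsc G hS).g := h1.epi_g
    have : Epi ((rsc G hS).g.f 0) := inferInstance
    rw [HomologicalComplex.epi_homologyMap_iff_up_to_refinements _ 1 0 0 (by simp) (by simp)]
    intro A y hy
    obtain ⟨A', π, hπ, x, hx⟩ := surjective_up_to_refinements_of_epi ((rsc G hS).g.f 0) y
    refine ⟨A', π, hπ, x, ?_, 0, ?_⟩
    · rw [HomologicalComplex.shape _ 0 0 (by simp), comp_zero]
    · simpa using hx
  have h2 : (G.leftDerived 0).map S.g =
      (e₂ G hS 0).hom ≫ HomologicalComplex.homologyMap (rsc G hS).g 0 ≫ (e₃ G hS 0).inv := by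
    rw [← Category.assoc, ← e₂_g, Category.assoc, Iso.hom_inv_id, Category.comp_id]
  rw [h2]
  infer_instance

include hS in
lemma isZero_mid (n : ℕ) (h : IsZero ((G.leftDerived n).obj S.X₁))
    (h' : IsZero ((G.leftDerived n).obj S.X₃)) : IsZero ((G.leftDerived n).obj S.X₂) :=
  (exact₂ G hS n).isZero_of_both_zeros (h.eq_of_src _ _) (h'.eq_of_tgt _ _)

include hS in
lemma isZero_left (n : ℕ) (h : IsZero ((G.leftDerived (n + 1)).obj S.X₃))
    (h' : IsZero ((G.leftDerived n).obj S.X₂)) :
    IsZero ((G.leftDerived n).obj S.X₁) :=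
  (exact₁ G hS n).isZero_of_both_zeros (h.eq_of_src _ _) (h'.eq_of_tgt _ _)

include hS in
lemma isZero_right (n : ℕ) (h : IsZero ((G.leftDerived (n + 1)).obj S.X₂))
    (h' : IsZero ((G.leftDerived n).obj S.X₁)) :
    IsZero ((G.leftDerived (n + 1)).obj S.X₃) :=
  (exact₃ G hS n).isZero_of_both_zeros (h.eq_of_src _ _) (h'.eq_of_tgt _ _)

end LES

end K85.LDerLES
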