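import Mathlib.CategoryTheory.Abelian.LeftDerived
import Mathlib.Algebra.Homology.HomologySequence
import Mathlib.Algebra.Homology.HomologySequenceLemmas
import Mathlib.Algebra.Homology.HomologicalComplexAbelian

/-! Horseshoe lemma for projective resolutions in abelian categories (dual of
`Groth.Agent.EtpbcB.Horseshoe`). -/

set_option autoImplicit false
set_option backward.isDefEq.respectTransparency false
universe v u v' u'

open CategoryTheory CategoryTheory.Limits CategoryTheory.Category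

namespace K85.LHorse

variable {C : Type u} [Category.{v} C] [Abelian C]

section Tw

variable {Z : C} (J : ProjectiveResolution Z)

/-- The object following degree `n` in the augmented resolution. -/
noncomputable def tgt : ℕ → C
  | 0 => Z
  | n + 1 => J.complex.X n

/-- The map out of degree `n` in the augmented resolution. -/
noncomputable def post : ∀ n, J.complex.X n ⟶ tgt J n
  | 0 => J.π.f 0
  | n + 1 => J.complex.d (n + 1) n

lemma d_post (n : ℕ) : J.complex.d (n + 1) n ≫ post J n = 0 := by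
  cases n with
  | zero => exact J.complex_d_comp_π_f_zero
  | succ n => exact J.complex.d_comp_d _ _ _

lemma post_exact (n : ℕ) : (ShortComplex.mk _ _ (d_post J n)).Exact := by
  cases n with
  | zero => exact J.exact₀
  | succ n => exact J.exact_succ n

variable {W : C} (I : ProjectiveResolution W)

/-- Twisting maps `I_{n+1} ⟶ J_n`. -/
def Tw (n : ℕ) : Type v :=
  { t : I.complex.X (n + 1) ⟶ J.complex.X n //
    I.complex.d (n + 2) (n + 1) ≫ t ≫ post J n = 0 }

/-- The next twisting map. -/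
noncomputable def Tw.next {n : ℕ} (t : Tw J I n) : Tw J I (n + 1) :=
  ⟨(post_exact J n).liftFromProjective (-(I.complex.d (n + 2) (n + 1) ≫ t.1))
      (by simpa using t.2), by
    have h := (post_exact J n).liftFromProjective_comp (-(I.complex.d (n + 2) (n + 1) ≫ t.1))
      (by simpa using t.2)
    have h' : (post_exact J n).liftFromProjective (-(I.complex.d (n + 2) (n + 1) ≫ t.1))
      (by simpa using t.2) ≫ post J (n + 1) = -(I.complex.d (n + 2) (n + 1) ≫ t.1) := h
    rw [h']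
    simp⟩

lemma Tw.next_spec {n : ℕ} (t : Tw J I n) :
    (t.next).1 ≫ J.complex.d (n + 1) n = -(I.complex.d (n + 2) (n + 1) ≫ t.1) :=
  (post_exact J n).liftFromProjective_comp (-(I.complex.d (n + 2) (n + 1) ≫ t.1))
      (by simpa using t.2)

/-- The sequence of twisting maps starting at a given one. -/
noncomputable def Tw.seq (t₀ : Tw J I 0) : ∀ n, Tw J I n
  | 0 => t₀
  | n + 1 => (Tw.seq t₀ n).next

lemma Tw.seq_spec (t₀ : Tw J I 0) (n : ℕ) :
    (Tw.seq J I t₀ (n + 1)).1 ≫ J.complex.d (n + 1) n =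
      -(I.complex.d (n + 2) (n + 1) ≫ (Tw.seq J I t₀ n).1) :=
  Tw.next_spec J I _

end Tw

section Cx

variable (K L : ChainComplex C ℕ) (τ : ∀ n, L.X (n + 1) ⟶ K.X n)
  (hτ : ∀ n, τ (n + 1) ≫ K.d (n + 1) n = -(L.d (n + 2) (n + 1) ≫ τ n))

/-- The twisted biproduct complex. -/
noncomputable def tcx : ChainComplex C ℕ :=
  ChainComplex.of (fun n => K.X n ⊞ L.X n)
    (fun n => biprod.desc (K.d (n + 1) n ≫ biprod.inl)
      (τ n ≫ biprod.inl + L.d (n + 1) n ≫ biprod.inr)) (by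
      intro n
      apply biprod.hom_ext' <;> simp [Preadditive.add_comp, Preadditive.comp_add]
      have h := hτ n =≫ (biprod.inl : _ ⟶ K.X n ⊞ L.X n)
      simp only [Category.assoc, Preadditive.neg_comp] at h
      rw [h]
      exact neg_add_cancel _)

@[simp]
lemma tcx_X (n : ℕ) : (tcx K L τ hτ).X n = (K.X n ⊞ L.X n) := rfl

lemma tcx_d (n : ℕ) : (tcx K L τ hτ).d (n + 1) n =
    biprod.desc (K.d (n + 1) n ≫ biprod.inl)
      (τ n ≫ biprod.inl + L.d (n + 1) n ≫ biprod.inr) :=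
  by simp [tcx]

/-- The inclusion of the first factor. -/
noncomputable def tinl : K ⟶ tcx K L τ hτ where
  f n := biprod.inl
  comm' := by
    rintro i j (rfl : j + 1 = i)
    rw [tcx_d]
    simp

/-- The projection to the second factor. -/
noncomputable def tsnd : tcx K L τ hτ ⟶ L where
  f n := biprod.snd
  comm' := by
    rintro i j (rfl : j + 1 = i)
    rw [tcx_d]
    apply biprod.hom_ext' <;> simp

/-- The short complex `K ⟶ tcx ⟶ L`. -/
noncomputable def tsc : ShortComplex (ChainComplex C ℕ) :=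
  ShortComplex.mk (tinl K L τ hτ) (tsnd K L τ hτ) (by ext n; simp [tinl, tsnd])

/-- The degreewise splitting. -/
noncomputable def tsplit (n : ℕ) :
    ((tsc K L τ hτ).map (HomologicalComplex.eval C (ComplexShape.down ℕ) n)).Splitting where
  r := biprod.fst
  s := biprod.inr
  f_r := by simp [tsc, tinl]
  s_g := biprod.inr_snd
  id := biprod.total

lemma tsc_shortExact : (tsc K L τ hτ).ShortExact :=
  HomologicalComplex.shortExact_of_degreewise_shortExact _ (fun n => (tsplit K L τ hτ n).shortExact)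

variable {D : Type u'} [Category.{v'} D] [Abelian D] (G : C ⥤ D) [G.Additive]

lemma tsc_map_shortExact : ((tsc K L τ hτ).map (G.mapHomologicalComplex (ComplexShape.down ℕ))).ShortExact :=
  HomologicalComplex.shortExact_of_degreewise_shortExact _
    (fun n => ((tsplit K L τ hτ n).map G).shortExact)

end Cx

section Mk

variable {Z : C}

/-- Constructor for projective resolutions. -/
noncomputable def resOf (K : ChainComplex C ℕ) (hK : ∀ n, Projective (K.X n)) (a : K.X 0 ⟶ Z)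
    (w : K.d 1 0 ≫ a = 0) (hex : (ShortComplex.mk (K.d 1 0) a w).Exact) (ha : Epi a)
    (h : ∀ n, K.ExactAt (n + 1)) : ProjectiveResolution Z where
  complex := K
  projective := hK
  π := (ChainComplex.toSingle₀Equiv _ _).symm ⟨a, w⟩
  quasiIso := ⟨fun n => by
    cases n
    · rw [ChainComplex.quasiIsoAt₀_iff, ShortComplex.quasiIso_iff_of_zeros']
      · refine (ShortComplex.exact_and_epi_g_iff_of_iso ?_).2 ⟨hex, ha⟩
        exact ShortComplex.isoMk (Iso.refl _) (Iso.refl _) (Iso.refl _) (by simp) (by simp)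
      · exact K.shape 0 0 (by simp)
      · rfl
      · rfl
    · rw [quasiIsoAt_iff_exactAt']
      · apply h
      · apply ChainComplex.exactAt_succ_single_obj⟩

@[simp]
lemma resOf_complex (K : ChainComplex C ℕ) (hK : ∀ n, Projective (K.X n)) (a : K.X 0 ⟶ Z)
    (w : K.d 1 0 ≫ a = 0) (hex : (ShortComplex.mk (K.d 1 0) a w).Exact) (ha : Epi a)
    (h : ∀ n, K.ExactAt (n + 1)) : (resOf K hK a w hex ha h).complex = K := rfl

lemma resOf_π_f_zero (K : ChainComplex C ℕ) (hK : ∀ n, Projective (K.X n)) (a : K.X 0 ⟶ Z)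
    (w : K.d 1 0 ≫ a = 0) (hex : (ShortComplex.mk (K.d 1 0) a w).Exact) (ha : Epi a)
    (h : ∀ n, K.ExactAt (n + 1)) : (resOf K hK a w hex ha h).π.f 0 = a := by
  simp [resOf]

end Mk

section Res

variable {S : ShortComplex C} (hS : S.ShortExact)
  (I₁ : ProjectiveResolution S.X₁) (I₃ : ProjectiveResolution S.X₃)

/-- Lift of the augmentation of `I₃` to `S.X₂`. -/
noncomputable def α : I₃.complex.X 0 ⟶ S.X₂ :=
  haveI := hS.epi_g
  Projective.factorThru (show I₃.complex.X 0 ⟶ S.X₃ from I₃.π.f 0) S.g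

@[reassoc (attr := simp)]
lemma α_g : α hS I₃ ≫ S.g = I₃.π.f 0 :=
  haveI := hS.epi_g
  Projective.factorThru_comp (show I₃.complex.X 0 ⟶ S.X₃ from I₃.π.f 0) S.g

/-- The lift of `d ≫ α` to `S.X₁`. -/
noncomputable def β : I₃.complex.X 1 ⟶ S.X₁ :=
  haveI := hS.mono_f
  hS.exact.lift (I₃.complex.d 1 0 ≫ α hS I₃) (by
    rw [Category.assoc, α_g]; exact I₃.complex_d_comp_π_f_zero)

@[reassoc (attr := simp)]
lemma β_f : β hS I₃ ≫ S.f = I₃.complex.d 1 0 ≫ α hS I₃ :=
  haveI := hS.mono_f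
  hS.exact.lift_f _ _

lemma d_β : I₃.complex.d 2 1 ≫ β hS I₃ = 0 := by
  have := hS.mono_f
  rw [← cancel_mono S.f]
  simp

/-- The first twisting map. -/
noncomputable def t₀ : Tw I₁ I₃ 0 :=
  ⟨Projective.factorThru (-β hS I₃) (show I₁.complex.X 0 ⟶ S.X₁ from I₁.π.f 0), by
    change _ ≫ _ ≫ (show I₁.complex.X 0 ⟶ S.X₁ from I₁.π.f 0) = 0
    rw [Projective.factorThru_comp]
    simp [d_β]⟩

lemma t₀_spec : (t₀ hS I₁ I₃).1 ≫ (show I₁.complex.X 0 ⟶ S.X₁ from I₁.π.f 0) = -β hS I₃ :=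
  Projective.factorThru_comp _ _

/-- The middle complex of the horseshoe. -/
noncomputable def mid : ChainComplex C ℕ :=
  tcx I₁.complex I₃.complex (fun n => (Tw.seq I₁ I₃ (t₀ hS I₁ I₃) n).1)
    (Tw.seq_spec I₁ I₃ (t₀ hS I₁ I₃))

/-- The short exact sequence of complexes of the horseshoe. -/
noncomputable def sc : ShortComplex (ChainComplex C ℕ) :=
  tsc I₁.complex I₃.complex (fun n => (Tw.seq I₁ I₃ (t₀ hS I₁ I₃) n).1)
    (Tw.seq_spec I₁ I₃ (t₀ hS I₁ I₃))

lemma sc_shortExact : (sc hS I₁ I₃).ShortExact := tsc_shortExact _ _ _ _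

lemma mid_exactAt (n : ℕ) : (mid hS I₁ I₃).ExactAt (n + 1) :=
  (sc_shortExact hS I₁ I₃).exactAt_X₂ (n + 1) (I₁.complex_exactAt_succ n)
    (I₃.complex_exactAt_succ n)

/-- The augmentation of the middle complex in degree `0`. -/
noncomputable def aug : (mid hS I₁ I₃).X 0 ⟶ S.X₂ :=
  biprod.desc (I₁.π.f 0 ≫ S.f) (α hS I₃)

lemma d_aug : (mid hS I₁ I₃).d 1 0 ≫ aug hS I₁ I₃ = 0 := by
  have h1 : (mid hS I₁ I₃).d 1 0 = _ := tcx_d _ _ _ _ 0
  rw [h1]
  have h2 : (t₀ hS I₁ I₃).1 ≫ I₁.π.f 0 = -β hS I₃ := t₀_spec hS I₁ I₃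
  have h3 : I₁.complex.d 1 0 ≫ I₁.π.f 0 = 0 := I₁.complex_d_comp_π_f_zero
  change _ ≫ biprod.desc (I₁.π.f 0 ≫ S.f) (α hS I₃) = 0
  apply biprod.hom_ext'
  · simp only [biprod.inl_desc_assoc, Category.assoc, biprod.inl_desc, comp_zero]
    rw [reassoc_of% h3, zero_comp]
  · simp only [biprod.inr_desc_assoc, Preadditive.add_comp, Category.assoc, biprod.inl_desc,
      biprod.inr_desc, comp_zero, Tw.seq]
    rw [reassoc_of% h2]
    simp

instance epi_aug : Epi (aug hS I₁ I₃) := by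
  have := hS.epi_g
  have hmono := hS.mono_f
  rw [Preadditive.epi_iff_cancel_zero]
  intro A x hx
  change biprod.desc (I₁.π.f 0 ≫ S.f) (α hS I₃) ≫ x = 0 at hx
  have h1 : α hS I₃ ≫ x = 0 := by
    have := biprod.inr ≫= hx
    simpa using this
  have h2 : I₁.π.f 0 ≫ S.f ≫ x = 0 := by
    have := biprod.inl ≫= hx
    simpa using this
  have h3 : S.f ≫ x = 0 := by
    rw [← cancel_epi (I₁.π.f 0), h2, comp_zero]
  have h4 : S.g ≫ hS.exact.desc x h3 = x := hS.exact.g_desc x h3
  have h5 : hS.exact.desc x h3 = 0 := by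
    rw [← cancel_epi (I₃.π.f 0)]
    have h6 : I₃.π.f 0 ≫ hS.exact.desc x h3 = 0 := by
      rw [← α_g hS I₃, Category.assoc, h4, h1]
    rw [h6, comp_zero]
  rw [← h4, h5, comp_zero]

lemma aug_exact : (ShortComplex.mk _ _ (d_aug hS I₁ I₃)).Exact := by
  have hmono := hS.mono_f
  rw [ShortComplex.exact_iff_exact_up_to_refinements]
  intro A x hx
  change A ⟶ I₁.complex.X 0 ⊞ I₃.complex.X 0 at x
  have hx' : x ≫ biprod.desc (I₁.π.f 0 ≫ S.f) (α hS I₃) = 0 := hx
  obtain ⟨a, b, rfl⟩ : ∃ a b, x = biprod.lift a b :=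
    ⟨x ≫ biprod.fst, x ≫ biprod.snd, by apply biprod.hom_ext <;> simp⟩
  rw [biprod.lift_desc] at hx'
  have h2 : (t₀ hS I₁ I₃).1 ≫ I₁.π.f 0 = -β hS I₃ := t₀_spec hS I₁ I₃
  have hb : b ≫ I₃.π.f 0 = 0 := by
    have := hx' =≫ S.g
    simpa using this
  obtain ⟨A', π, hπ, b', hb'⟩ := I₃.exact₀.exact_up_to_refinements b hb
  change π ≫ b = b' ≫ I₃.complex.d 1 0 at hb'
  -- now `π ≫ a - b' ≫ t₀` is killed by the augmentation
  have he : (π ≫ a - b' ≫ (t₀ hS I₁ I₃).1) ≫ I₁.π.f 0 = 0 := by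
    rw [← cancel_mono S.f]
    have h3 := π ≫= hx'
    simp only [Preadditive.comp_add, comp_zero] at h3
    rw [reassoc_of% hb', ← β_f hS I₃] at h3
    simp only [Preadditive.sub_comp, Category.assoc, zero_comp]
    rw [reassoc_of% h2]
    simpa using h3
  obtain ⟨A'', ρ, hρ, c, hc⟩ := I₁.exact₀.exact_up_to_refinements _ he
  change ρ ≫ (π ≫ a - b' ≫ (t₀ hS I₁ I₃).1) = c ≫ I₁.complex.d 1 0 at hc
  refine ⟨A'', ρ ≫ π, inferInstance, biprod.lift c (ρ ≫ b'), ?_⟩
  have h1 : (mid hS I₁ I₃).d 1 0 = _ := tcx_d _ _ _ _ 0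
  change (ρ ≫ π) ≫ biprod.lift a b = biprod.lift c (ρ ≫ b') ≫ (mid hS I₁ I₃).d 1 0
  rw [h1, biprod.lift_desc]
  change (ρ ≫ π) ≫ biprod.lift a b =
    c ≫ I₁.complex.d 1 0 ≫ (biprod.inl : I₁.complex.X 0 ⟶ I₁.complex.X 0 ⊞ I₃.complex.X 0) +
    (ρ ≫ b') ≫ ((t₀ hS I₁ I₃).1 ≫
      (biprod.inl : I₁.complex.X 0 ⟶ I₁.complex.X 0 ⊞ I₃.complex.X 0) +
      I₃.complex.d 1 0 ≫ (biprod.inr : I₃.complex.X 0 ⟶ I₁.complex.X 0 ⊞ I₃.complex.X 0))
  apply biprod.hom_ext
  · simp only [Category.assoc, biprod.lift_fst, Preadditive.add_comp, Preadditive.comp_add,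
      biprod.inl_fst, biprod.inr_fst, comp_zero, add_zero, Category.comp_id]
    rw [← hc]
    simp
  · simp only [Category.assoc, biprod.lift_snd, Preadditive.add_comp, Preadditive.comp_add,
      biprod.inl_snd, biprod.inr_snd, comp_zero, zero_add, Category.comp_id]
    rw [hb']

/-- The horseshoe resolution of the middle object. -/
noncomputable def midRes : ProjectiveResolution S.X₂ :=
  resOf (mid hS I₁ I₃) (fun n => by
    change Projective (I₁.complex.X n ⊞ I₃.complex.X n)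
    infer_instance) (aug hS I₁ I₃) (d_aug hS I₁ I₃) (aug_exact hS I₁ I₃) inferInstance
    (mid_exactAt hS I₁ I₃)

end Res

end K85.LHorse
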