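import Mathlib.RingTheory.DiscreteValuationRing.Basic
import Mathlib.RingTheory.LocalRing.ResidueField.Basic
import Mathlib.RingTheory.Localization.Away.Basic
import Mathlib.RingTheory.Localization.FractionRing
import Mathlib.RingTheory.Kaehler.Basic
import Mathlib.RingTheory.Etale.Kaehler
import Mathlib.RingTheory.RingHom.Etale
import Mathlib.RingTheory.RingHom.QuasiFinite
import Mathlib.RingTheory.QuasiFinite.Basic
import Mathlib.RingTheory.Polynomial.Wronskian
import Mathlib.Algebra.MvPolynomial.Division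
import Mathlib.Algebra.MvPolynomial.Derivation
import Mathlib.Algebra.DualNumber
import Mathlib.Algebra.Polynomial.Derivation

/-!
# The standard semistable node `V[x, y] / (x y - ϖ)`
-/

set_option autoImplicit false
universe u v w

namespace K85.Node

open MvPolynomial

section basics

variable (V : Type u) [CommRing V] (ϖ : V)

/-- The coordinate ring of the node. -/
abbrev Q : Type u := MvPolynomial (Fin 2) V ⧸ Ideal.span {(X 0 * X 1 - C ϖ : MvPolynomial (Fin 2) V)}

/-- The projection. -/
noncomputable abbrev mkQ : MvPolynomial (Fin 2) V →+* Q V ϖ :=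
  Ideal.Quotient.mk (Ideal.span {(X 0 * X 1 - C ϖ : MvPolynomial (Fin 2) V)})

variable {V ϖ}

theorem mkQ_mul : mkQ V ϖ (X 0) * mkQ V ϖ (X 1) = algebraMap V (Q V ϖ) ϖ := by
  rw [← map_mul, ← sub_eq_zero]
  change mkQ V ϖ (X 0 * X 1) - mkQ V ϖ (C ϖ) = 0
  rw [← map_sub, Ideal.Quotient.eq_zero_iff_mem]
  exact Ideal.mem_span_singleton_self _

variable (h : Q V ϖ)

/-- the coordinate `x_i` on the open subset `h ≠ 0` -/
noncomputable abbrev x (i : Fin 2) : Localization.Away h :=
  algebraMap (Q V ϖ) (Localization.Away h) (mkQ V ϖ (X i))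

theorem x_mul : x h 0 * x h 1 = algebraMap V (Localization.Away h) ϖ := by
  rw [x, x, ← map_mul, mkQ_mul, ← IsScalarTower.algebraMap_apply]

theorem algebraMap_X (i : Fin 2) :
    algebraMap (MvPolynomial (Fin 2) V) (Localization.Away h) (X i) = x h i := by
  rw [IsScalarTower.algebraMap_apply (MvPolynomial (Fin 2) V) (Q V ϖ) (Localization.Away h)]
  rfl

/-- A derivation on the node which kills both coordinates is zero. -/
theorem derivation_eq_zero {M : Type w} [AddCommGroup M] [Module V M] [Module (Localization.Away h) M]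
    [IsScalarTower V (Localization.Away h) M]
    (D : Derivation V (Localization.Away h) M) (hD : ∀ i, D (x h i) = 0) : D = 0 := by
  -- on polynomials
  have h1 : ∀ p : MvPolynomial (Fin 2) V,
      D (algebraMap (MvPolynomial (Fin 2) V) (Localization.Away h) p) = 0 := by
    intro p
    induction p using MvPolynomial.induction_on with
    | C a =>
      change D (algebraMap (MvPolynomial (Fin 2) V) (Localization.Away h)
        (algebraMap V (MvPolynomial (Fin 2) V) a)) = 0
      rw [← IsScalarTower.algebraMap_apply V (MvPolynomial (Fin 2) V) (Localization.Away h)]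
      exact D.map_algebraMap a
    | add p q hp hq => rw [map_add, map_add, hp, hq, add_zero]
    | mul_X p i hp => rw [map_mul, D.leibniz, hp, algebraMap_X, hD, smul_zero, smul_zero, add_zero]
  have h2 : ∀ q : Q V ϖ, D (algebraMap (Q V ϖ) (Localization.Away h) q) = 0 := by
    intro q
    obtain ⟨p, rfl⟩ := Ideal.Quotient.mk_surjective q
    have h3 := h1 p
    rw [IsScalarTower.algebraMap_apply (MvPolynomial (Fin 2) V) (Q V ϖ) (Localization.Away h)] at h3
    exact h3
  ext b
  rw [Derivation.zero_apply]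
  obtain ⟨⟨q, ⟨_, n, rfl⟩⟩, hq⟩ := IsLocalization.surj (Submonoid.powers h) b
  simp only at hq
  have h4 : D (b * algebraMap (Q V ϖ) (Localization.Away h) (h ^ n)) = 0 := by rw [hq, h2]
  rw [D.leibniz, h2, smul_zero, zero_add] at h4
  have hu : IsUnit (algebraMap (Q V ϖ) (Localization.Away h) (h ^ n)) :=
    IsLocalization.map_units (Localization.Away h) (⟨h ^ n, n, rfl⟩ : Submonoid.powers h)
  exact hu.smul_eq_zero.1 h4

/-- Algebra homomorphisms out of the node are determined by the coordinates. -/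
theorem algHom_ext {C' : Type w} [CommRing C'] [Algebra V C'] (φ ψ : Localization.Away h →ₐ[V] C')
    (hφ : ∀ i, φ (x h i) = ψ (x h i)) : φ = ψ := by
  have h1 : ∀ p : MvPolynomial (Fin 2) V,
      φ (algebraMap (MvPolynomial (Fin 2) V) (Localization.Away h) p) =
        ψ (algebraMap (MvPolynomial (Fin 2) V) (Localization.Away h) p) := by
    intro p
    induction p using MvPolynomial.induction_on with
    | C a =>
      change φ (algebraMap (MvPolynomial (Fin 2) V) (Localization.Away h)
        (algebraMap V (MvPolynomial (Fin 2) V) a)) =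
        ψ (algebraMap (MvPolynomial (Fin 2) V) (Localization.Away h)
        (algebraMap V (MvPolynomial (Fin 2) V) a))
      rw [← IsScalarTower.algebraMap_apply V (MvPolynomial (Fin 2) V) (Localization.Away h),
        φ.commutes, ψ.commutes]
    | add p q hp hq => simp only [map_add, hp, hq]
    | mul_X p i hp => simp only [map_mul, hp, algebraMap_X, hφ]
  have h2 : (φ : Localization.Away h →+* C') = ψ := by
    apply IsLocalization.ringHom_ext (Submonoid.powers h)
    apply Ideal.Quotient.ringHom_ext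
    apply RingHom.ext
    intro p
    have h3 := h1 p
    rw [IsScalarTower.algebraMap_apply (MvPolynomial (Fin 2) V) (Q V ϖ) (Localization.Away h)] at h3
    exact h3
  exact AlgHom.ext fun b => RingHom.congr_fun h2 b

/-- Construction of algebra homomorphisms out of the node. -/
theorem exists_algHom {C' : Type w} [CommRing C'] [Algebra V C'] (a : Fin 2 → C')
    (ha : a 0 * a 1 = algebraMap V C' ϖ)
    (hu : ∀ φ : Q V ϖ →ₐ[V] C', (∀ i, φ (mkQ V ϖ (X i)) = a i) → IsUnit (φ h)) :
    ∃ φ : Localization.Away h →ₐ[V] C', ∀ i, φ (x h i) = a i := by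
  let φ₀ : Q V ϖ →ₐ[V] C' := Ideal.Quotient.liftₐ _ (aeval a) (by
    intro p hp
    obtain ⟨q, rfl⟩ := Ideal.mem_span_singleton.1 hp
    rw [map_mul, map_sub, map_mul, aeval_X, aeval_X, algHom_C, ha, sub_self, zero_mul])
  have hφ₀ : ∀ i, φ₀ (mkQ V ϖ (X i)) = a i := fun i => by
    change aeval a (X i) = a i
    exact aeval_X a i
  have hunit := hu φ₀ hφ₀
  refine ⟨IsLocalization.liftAlgHom (M := Submonoid.powers h) (f := φ₀) ?_, fun i => ?_⟩
  · rintro ⟨_, n, rfl⟩
    rw [map_pow]
    exact hunit.pow n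
  · rw [IsLocalization.liftAlgHom_apply, x, IsLocalization.lift_eq]
    exact hφ₀ i

/-- Construction of derivations on the node. -/
theorem exists_derivation {C' : Type u} [CommRing C'] [Algebra V C'] [Algebra (Localization.Away h) C']
    [IsScalarTower V (Localization.Away h) C'] (a : Fin 2 → C')
    (ha : algebraMap _ C' (x h 0) * a 1 + algebraMap _ C' (x h 1) * a 0 = 0) :
    ∃ (Φ : Localization.Away h →ₐ[V] DualNumber C') (θ : Derivation V (Localization.Away h) C'),
      (∀ b, TrivSqZeroExt.fst (Φ b) = algebraMap _ C' b) ∧ (∀ b, θ b = TrivSqZeroExt.snd (Φ b)) ∧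
        ∀ i, θ (x h i) = a i := by
  obtain ⟨Φ, hΦ⟩ := exists_algHom (h := h) (C' := DualNumber C')
    (fun i => TrivSqZeroExt.inl (algebraMap _ C' (x h i)) + TrivSqZeroExt.inr (a i)) (by
      ext
      · simp only [TrivSqZeroExt.fst_mul, TrivSqZeroExt.fst_add, TrivSqZeroExt.fst_inl,
          TrivSqZeroExt.fst_inr, add_zero]
        rw [← map_mul, x_mul, ← IsScalarTower.algebraMap_apply]
        rfl
      · simp only [TrivSqZeroExt.snd_mul, TrivSqZeroExt.fst_add, TrivSqZeroExt.fst_inl,
          TrivSqZeroExt.fst_inr, add_zero, TrivSqZeroExt.snd_add, TrivSqZeroExt.snd_inl,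
          TrivSqZeroExt.snd_inr, zero_add, smul_eq_mul, MulOpposite.smul_eq_mul_unop,
          MulOpposite.unop_op]
        rw [mul_comm (a 0), ha]
        rfl) (by
      intro φ hφ
      rw [TrivSqZeroExt.isUnit_iff_isUnit_fst]
      have h1 : (TrivSqZeroExt.fstHom V C' C').comp φ =
          (IsScalarTower.toAlgHom V (Localization.Away h) C').comp
            (IsScalarTower.toAlgHom V (Q V ϖ) (Localization.Away h)) := by
        apply Ideal.Quotient.algHom_ext
        apply MvPolynomial.algHom_ext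
        intro i
        change TrivSqZeroExt.fst (φ (mkQ V ϖ (X i))) = _
        rw [hφ]
        simp
      have h2 := AlgHom.congr_fun h1 h
      change TrivSqZeroExt.fst (φ h) = algebraMap (Localization.Away h) C'
        (algebraMap (Q V ϖ) (Localization.Away h) h) at h2
      rw [h2]
      exact (IsLocalization.map_units (Localization.Away h)
        (⟨h, 1, pow_one h⟩ : Submonoid.powers h)).map _)
  have hfst : ∀ b, TrivSqZeroExt.fst (Φ b) = algebraMap _ C' b := by
    have h1 : (TrivSqZeroExt.fstHom V C' C').comp Φ =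
        (IsScalarTower.toAlgHom V (Localization.Away h) C') := by
      apply algHom_ext
      intro i
      change TrivSqZeroExt.fst (Φ (x h i)) = _
      rw [hΦ]
      simp
    exact fun b => AlgHom.congr_fun h1 b
  refine ⟨Φ, Derivation.mk' ((TrivSqZeroExt.sndHom C' C').restrictScalars V ∘ₗ Φ.toLinearMap) ?_,
    hfst, fun b => rfl, fun i => ?_⟩
  · intro b c
    change TrivSqZeroExt.snd (Φ (b * c)) = b • TrivSqZeroExt.snd (Φ c) + c • TrivSqZeroExt.snd (Φ b)
    rw [map_mul, TrivSqZeroExt.snd_mul, hfst, hfst, smul_eq_mul, MulOpposite.smul_eq_mul_unop,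
      MulOpposite.unop_op, Algebra.smul_def b, Algebra.smul_def c, mul_comm (TrivSqZeroExt.snd (Φ b))]
  · change TrivSqZeroExt.snd (Φ (x h i)) = a i
    rw [hΦ]
    simp

end basics

section comp

variable {V : Type u} [CommRing V] [IsDomain V] [IsDiscreteValuationRing V] {ϖ : V}

/-- the other index -/
abbrev oth (i : Fin 2) : Fin 2 := if i = 0 then 1 else 0

omit [IsDomain V] [IsDiscreteValuationRing V] in
theorem X_mul_X (i : Fin 2) :
    (X i * X (oth i) : MvPolynomial (Fin 2) V) = X 0 * X 1 := by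
  fin_cases i
  · rfl
  · exact mul_comm _ _

omit [IsDomain V] [IsDiscreteValuationRing V] in
theorem mk_mul (i : Fin 2) :
    mkQ V ϖ (X i) * mkQ V ϖ (X (oth i)) = algebraMap V (Q V ϖ) ϖ := by
  rw [← map_mul, X_mul_X, map_mul, mkQ_mul]

omit [IsDomain V] [IsDiscreteValuationRing V] in
theorem x_mul_oth (h : Q V ϖ) (i : Fin 2) :
    x h i * x h (oth i) = algebraMap V (Localization.Away h) ϖ := by
  rw [x, x, ← map_mul, mk_mul, ← IsScalarTower.algebraMap_apply]

/-- the component `x_i = 0` of the closed fibre: `x_i ↦ 0`, `x_j ↦ Y` -/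
noncomputable def toPoly (V : Type u) [CommRing V] [IsDomain V] [IsDiscreteValuationRing V] (i : Fin 2) :
    MvPolynomial (Fin 2) V →ₐ[V] Polynomial (IsLocalRing.ResidueField V) :=
  aeval fun l => if l = i then 0 else Polynomial.X

theorem algebraMap_uniformizer (hϖ : Irreducible ϖ) :
    algebraMap V (IsLocalRing.ResidueField V) ϖ = 0 := by
  rw [IsLocalRing.ResidueField.algebraMap_eq, IsLocalRing.residue_eq_zero_iff,
    (IsDiscreteValuationRing.irreducible_iff_uniformizer ϖ).1 hϖ]
  exact Ideal.mem_span_singleton_self _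

theorem toPoly_mem (hϖ : Irreducible ϖ) (i : Fin 2) (p : MvPolynomial (Fin 2) V)
    (hp : p ∈ Ideal.span {(X 0 * X 1 - C ϖ : MvPolynomial (Fin 2) V)}) : toPoly V i p = 0 := by
  obtain ⟨q, rfl⟩ := Ideal.mem_span_singleton.1 hp
  rw [map_mul, map_sub, ← X_mul_X i, map_mul]
  have h1 : toPoly V i (X i) = 0 := by simp [toPoly]
  have h2 : toPoly V i (C ϖ) = 0 := by
    rw [toPoly, algHom_C, IsScalarTower.algebraMap_apply V (IsLocalRing.ResidueField V),
      algebraMap_uniformizer hϖ, map_zero]
  rw [h1, h2, zero_mul, sub_zero, zero_mul]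

/-- the component `x_i = 0` of the closed fibre of the node -/
noncomputable def toPolyQ (hϖ : Irreducible ϖ) (i : Fin 2) :
    Q V ϖ →ₐ[V] Polynomial (IsLocalRing.ResidueField V) :=
  Ideal.Quotient.liftₐ _ (toPoly V i) (toPoly_mem hϖ i)

theorem toPolyQ_mk (hϖ : Irreducible ϖ) (i : Fin 2) (p : MvPolynomial (Fin 2) V) :
    toPolyQ hϖ i (mkQ V ϖ p) = toPoly V i p := rfl

theorem toPoly_X_self (i : Fin 2) : toPoly V i (X i) = 0 := by simp [toPoly]

theorem oth_ne (i : Fin 2) : oth i ≠ i := by fin_cases i <;> simp [oth]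

theorem toPoly_X_oth (i : Fin 2) : toPoly V i (X (oth i)) = Polynomial.X := by
  rw [toPoly, aeval_X, if_neg (oth_ne i)]

theorem eq_or_oth (i l : Fin 2) : l = i ∨ l = oth i := by
  fin_cases i <;> fin_cases l <;> simp [oth]

/-- The kernel of the map to `k[Y]` is generated by `x_i`. -/
theorem mem_span_of_toPolyQ_eq_zero (hϖ : Irreducible ϖ) (i : Fin 2) (q : Q V ϖ)
    (hq : toPolyQ hϖ i q = 0) : q ∈ Ideal.span {mkQ V ϖ (X i)} := by
  obtain ⟨p, rfl⟩ := Ideal.Quotient.mk_surjective q
  change toPoly V i p = 0 at hq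
  -- the polynomial in one variable obtained by setting `X_i = 0`
  let σ : MvPolynomial (Fin 2) V →ₐ[V] Polynomial V := aeval fun l => if l = i then 0 else Polynomial.X
  let τ : Polynomial V →ₐ[V] MvPolynomial (Fin 2) V := Polynomial.aeval (X (oth i))
  have h1 : ∀ p, p - τ (σ p) ∈ Ideal.span {(X i : MvPolynomial (Fin 2) V)} := by
    intro p
    have h2 : (Ideal.Quotient.mkₐ V (Ideal.span {(X i : MvPolynomial (Fin 2) V)})).comp (τ.comp σ) =
        Ideal.Quotient.mkₐ V (Ideal.span {(X i : MvPolynomial (Fin 2) V)}) := by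
      apply MvPolynomial.algHom_ext
      intro l
      rcases eq_or_oth i l with rfl | rfl
      · have h3 : σ (X l) = 0 := by simp [σ]
        rw [AlgHom.comp_apply, AlgHom.comp_apply, h3, map_zero, map_zero]
        symm
        exact Ideal.Quotient.eq_zero_iff_mem.2 (Ideal.mem_span_singleton_self _)
      · have h3 : σ (X (oth i)) = Polynomial.X := by
          rw [show σ (X (oth i)) = _ from aeval_X _ _, if_neg (oth_ne i)]
        rw [AlgHom.comp_apply, AlgHom.comp_apply, h3]
        congr 1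
        exact Polynomial.aeval_X _
    rw [← Ideal.Quotient.eq_zero_iff_mem, map_sub, sub_eq_zero]
    exact (AlgHom.congr_fun h2 p).symm
  have h3 : (σ p).map (algebraMap V (IsLocalRing.ResidueField V)) = 0 := by
    rw [← hq]
    have h4 : ((Polynomial.mapAlgHom (Algebra.ofId V (IsLocalRing.ResidueField V))).comp σ) =
        toPoly V i := by
      apply MvPolynomial.algHom_ext
      intro l
      rw [AlgHom.comp_apply]
      change Polynomial.mapAlgHom _ (aeval _ (X l)) = aeval _ (X l)
      rw [aeval_X, aeval_X]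
      split_ifs
      · rw [map_zero]
      · simp
    have h5 := AlgHom.congr_fun h4 p
    exact h5
  have h6 : Polynomial.C ϖ ∣ σ p := by
    rw [Polynomial.C_dvd_iff_dvd_coeff]
    intro n
    have h7 := congrArg (fun r => Polynomial.coeff r n) h3
    simp only [Polynomial.coeff_map, Polynomial.coeff_zero] at h7
    rw [IsLocalRing.ResidueField.algebraMap_eq, IsLocalRing.residue_eq_zero_iff,
      (IsDiscreteValuationRing.irreducible_iff_uniformizer ϖ).1 hϖ, Ideal.mem_span_singleton] at h7
    exact h7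
  obtain ⟨r, hr⟩ := h6
  obtain ⟨s, hs⟩ := Ideal.mem_span_singleton.1 (h1 p)
  have h8 : p = X i * s + C ϖ * τ r := by
    rw [← hs, hr, map_mul]
    have h9 : τ (Polynomial.C ϖ) = C ϖ := Polynomial.aeval_C _ _
    rw [h9]
    ring
  rw [h8, map_add, map_mul, map_mul]
  have h10 : (Ideal.Quotient.mk (Ideal.span {(X 0 * X 1 - C ϖ : MvPolynomial (Fin 2) V)})) (C ϖ) =
      mkQ V ϖ (X i) * mkQ V ϖ (X (oth i)) := by
    rw [mk_mul]; rfl
  rw [h10]
  refine add_mem ?_ ?_
  · exact Ideal.mul_mem_right _ _ (Ideal.mem_span_singleton_self _)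
  · rw [mul_assoc]
    exact Ideal.mul_mem_right _ _ (Ideal.mem_span_singleton_self _)

/-- `x_i` is a nonzerodivisor in the coordinate ring of the node. -/
theorem mk_X_mul_eq_zero (hϖ : Irreducible ϖ) (i : Fin 2) (q : Q V ϖ)
    (hq : mkQ V ϖ (X i) * q = 0) : q = 0 := by
  obtain ⟨p, rfl⟩ := Ideal.Quotient.mk_surjective q
  change mkQ V ϖ (X i) * mkQ V ϖ p = 0 at hq
  rw [← map_mul, Ideal.Quotient.eq_zero_iff_mem] at hq
  obtain ⟨r, hr⟩ := Ideal.mem_span_singleton.1 hq
  have hdvd : (X i : MvPolynomial (Fin 2) V) ∣ r := by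
    have h1 : (X i : MvPolynomial (Fin 2) V) ∣ (X 0 * X 1 - C ϖ) * r := ⟨p, hr.symm⟩
    rcases X_prime.dvd_or_dvd h1 with h2 | h2
    · exfalso
      rw [← X_mul_X i] at h2
      have h3 : (X i : MvPolynomial (Fin 2) V) ∣ C ϖ := by
        have h4 := dvd_sub (dvd_mul_right (X i : MvPolynomial (Fin 2) V) (X (oth i))) h2
        rwa [sub_sub_cancel] at h4
      have h5 := map_dvd (constantCoeff (σ := Fin 2) (R := V)) h3
      rw [constantCoeff_X, constantCoeff_C, zero_dvd_iff] at h5
      exact hϖ.ne_zero h5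
    · exact h2
  obtain ⟨r', rfl⟩ := hdvd
  have h6 : p = (X 0 * X 1 - C ϖ) * r' := by
    apply mul_left_cancel₀ (X_prime (i := i) (R := V) (σ := Fin 2)).ne_zero
    rw [hr]
    ring
  rw [h6, Ideal.Quotient.eq_zero_iff_mem]
  exact Ideal.mul_mem_right _ _ (Ideal.mem_span_singleton_self _)

theorem x_mul_eq_zero (hϖ : Irreducible ϖ) (h : Q V ϖ) (i : Fin 2) (b : Localization.Away h)
    (hb : x h i * b = 0) : b = 0 := by
  obtain ⟨⟨q, ⟨_, n, rfl⟩⟩, hq⟩ := IsLocalization.surj (Submonoid.powers h) b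
  simp only at hq
  have hu : IsUnit (algebraMap (Q V ϖ) (Localization.Away h) (h ^ n)) :=
    IsLocalization.map_units (Localization.Away h) (⟨h ^ n, n, rfl⟩ : Submonoid.powers h)
  have h1 : algebraMap (Q V ϖ) (Localization.Away h) (mkQ V ϖ (X i) * q) = 0 := by
    rw [map_mul, ← hq, ← mul_assoc]
    change x h i * b * _ = 0
    rw [hb, zero_mul]
  rw [IsLocalization.map_eq_zero_iff (Submonoid.powers h)] at h1
  obtain ⟨⟨_, m, rfl⟩, hm⟩ := h1
  simp only at hm
  have h2 : h ^ m * q = 0 := by
    apply mk_X_mul_eq_zero hϖ i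
    rw [← hm]
    ring
  have h3 : algebraMap (Q V ϖ) (Localization.Away h) q = 0 := by
    rw [IsLocalization.map_eq_zero_iff (Submonoid.powers h)]
    exact ⟨⟨h ^ m, m, rfl⟩, h2⟩
  rw [h3] at hq
  exact (hu.mul_left_eq_zero).1 hq

/-- evaluation of the component at the origin -/
noncomputable def evalZero (V : Type u) [CommRing V] [IsDomain V] [IsDiscreteValuationRing V] :
    Polynomial (IsLocalRing.ResidueField V) →ₐ[V] IsLocalRing.ResidueField V :=
  (Polynomial.aeval (0 : IsLocalRing.ResidueField V)).restrictScalars V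

/-- An element of the node which vanishes at the closed point lies in `(x, y)`. -/
theorem mem_span_of_eval_eq_zero (hϖ : Irreducible ϖ) (i : Fin 2) (q : Q V ϖ)
    (hq : evalZero V (toPolyQ hϖ i q) = 0) : q ∈ Ideal.span {mkQ V ϖ (X 0), mkQ V ϖ (X 1)} := by
  have hmem : ∀ l, mkQ V ϖ (X l) ∈ Ideal.span {mkQ V ϖ (X 0), mkQ V ϖ (X 1)} := by
    intro l
    apply Ideal.subset_span
    fin_cases l <;> simp
  -- write `toPolyQ q = Y * r`
  have h1 : (Polynomial.X : Polynomial (IsLocalRing.ResidueField V)) ∣ toPolyQ hϖ i q := by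
    rw [Polynomial.X_dvd_iff, Polynomial.coeff_zero_eq_eval_zero]
    change Polynomial.aeval (0 : IsLocalRing.ResidueField V) (toPolyQ hϖ i q) = 0 at hq
    rwa [Polynomial.coe_aeval_eq_eval] at hq
  obtain ⟨r, hr⟩ := h1
  -- lift `r`
  obtain ⟨r', hr'⟩ : ∃ r' : Q V ϖ, toPolyQ hϖ i r' = r := by
    have hsurj : ∀ r : Polynomial (IsLocalRing.ResidueField V), ∃ r' : Q V ϖ, toPolyQ hϖ i r' = r := by
      intro r
      induction r using Polynomial.induction_on' with
      | add a b ha hb =>
        obtain ⟨a', rfl⟩ := ha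
        obtain ⟨b', rfl⟩ := hb
        exact ⟨a' + b', map_add _ _ _⟩
      | monomial n a =>
        obtain ⟨c, rfl⟩ := IsLocalRing.residue_surjective (R := V) a
        refine ⟨mkQ V ϖ (C c * X (oth i) ^ n), ?_⟩
        rw [toPolyQ_mk, map_mul, map_pow, toPoly_X_oth, toPoly, algHom_C,
          IsScalarTower.algebraMap_apply V (IsLocalRing.ResidueField V),
          ← Polynomial.C_mul_X_pow_eq_monomial]
        rfl
    exact hsurj r
  have h2 : q - mkQ V ϖ (X (oth i)) * r' ∈ Ideal.span {mkQ V ϖ (X i)} := by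
    apply mem_span_of_toPolyQ_eq_zero hϖ i
    rw [map_sub, map_mul, toPolyQ_mk, toPoly_X_oth, hr', ← hr, sub_self]
  have h3 : q = (q - mkQ V ϖ (X (oth i)) * r') + mkQ V ϖ (X (oth i)) * r' := by ring
  rw [h3]
  refine add_mem ?_ (Ideal.mul_mem_right _ _ (hmem _))
  exact (Ideal.span_le.2 (by rintro _ rfl; exact hmem i)) h2

variable (hϖ : Irreducible ϖ) (h : Q V ϖ)
  (hh : h ∉ Ideal.span {mkQ V ϖ (X 0), mkQ V ϖ (X 1)})

include hh in
theorem evalZero_ne_zero (i : Fin 2) : evalZero V (toPolyQ hϖ i h) ≠ 0 :=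
  fun h0 => hh (mem_span_of_eval_eq_zero hϖ i h h0)

include hh in
theorem toPolyQ_ne_zero (i : Fin 2) : toPolyQ hϖ i h ≠ 0 := fun h0 =>
  evalZero_ne_zero hϖ h hh i (by rw [h0, map_zero])

theorem isUnit_of_lift (i : Fin 2) {C' : Type w} [CommRing C'] [Algebra V C']
    (τ : Polynomial (IsLocalRing.ResidueField V) →ₐ[V] C') (hτ : IsUnit (τ (toPolyQ hϖ i h))) :
    ∃ φ : Localization.Away h →ₐ[V] C',
      ∀ q, φ (algebraMap (Q V ϖ) (Localization.Away h) q) = τ (toPolyQ hϖ i q) := by
  refine ⟨IsLocalization.liftAlgHom (M := Submonoid.powers h) (f := τ.comp (toPolyQ hϖ i)) ?_,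
    fun q => ?_⟩
  · rintro ⟨_, n, rfl⟩
    rw [map_pow]
    exact hτ.pow n
  · rw [IsLocalization.liftAlgHom_apply, IsLocalization.lift_eq]
    rfl

theorem mem_span_of_map_eq_zero (i : Fin 2) {L : Type w} [CommRing L] [IsDomain L] [Algebra V L]
    (τ : Polynomial (IsLocalRing.ResidueField V) →ₐ[V] L) (hτ : Function.Injective τ)
    (π : Localization.Away h →ₐ[V] L)
    (hπ : ∀ q, π (algebraMap (Q V ϖ) (Localization.Away h) q) = τ (toPolyQ hϖ i q))
    (b : Localization.Away h) (hb : π b = 0) : b ∈ Ideal.span {x h i} := by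
  obtain ⟨⟨q, ⟨_, n, rfl⟩⟩, hq⟩ := IsLocalization.surj (Submonoid.powers h) b
  simp only at hq
  have hu : IsUnit (algebraMap (Q V ϖ) (Localization.Away h) (h ^ n)) :=
    IsLocalization.map_units (Localization.Away h) (⟨h ^ n, n, rfl⟩ : Submonoid.powers h)
  have h1 : τ (toPolyQ hϖ i q) = 0 := by rw [← hπ, ← hq, map_mul, hb, zero_mul]
  have h2 : q ∈ Ideal.span {mkQ V ϖ (X i)} :=
    mem_span_of_toPolyQ_eq_zero hϖ i q (hτ (by rw [h1, map_zero]))
  obtain ⟨r, rfl⟩ := Ideal.mem_span_singleton.1 h2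
  rw [← Ideal.mul_unit_mem_iff_mem _ hu, hq, map_mul]
  exact Ideal.mul_mem_right _ _ (Ideal.mem_span_singleton_self _)

/-- the embedding of the component in its function field -/
theorem exists_frac (i : Fin 2) (hh : h ∉ Ideal.span {mkQ V ϖ (X 0), mkQ V ϖ (X 1)}) :
    ∃ π : Localization.Away h →ₐ[V] FractionRing (Polynomial (IsLocalRing.ResidueField V)),
      ∀ q, π (algebraMap (Q V ϖ) (Localization.Away h) q) =
        IsScalarTower.toAlgHom V (Polynomial (IsLocalRing.ResidueField V))
          (FractionRing (Polynomial (IsLocalRing.ResidueField V))) (toPolyQ hϖ i q) := by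
  apply isUnit_of_lift
  apply IsUnit.mk0
  intro h0
  apply toPolyQ_ne_zero hϖ h hh i
  exact (IsFractionRing.injective (Polynomial (IsLocalRing.ResidueField V))
    (FractionRing (Polynomial (IsLocalRing.ResidueField V)))) (by rw [map_zero]; exact h0)

/-- the closed point -/
theorem exists_point (i : Fin 2) (hh : h ∉ Ideal.span {mkQ V ϖ (X 0), mkQ V ϖ (X 1)}) :
    ∃ π : Localization.Away h →ₐ[V] IsLocalRing.ResidueField V,
      ∀ q, π (algebraMap (Q V ϖ) (Localization.Away h) q) = evalZero V (toPolyQ hϖ i q) :=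
  isUnit_of_lift hϖ h i (evalZero V) (IsUnit.mk0 _ (evalZero_ne_zero hϖ h hh i))

include hϖ hh in
theorem isPrime_span (i : Fin 2) : (Ideal.span {x h i}).IsPrime := by
  obtain ⟨π, hπ⟩ := exists_frac hϖ h i hh
  have h1 : Ideal.span {x h i} = RingHom.ker π.toRingHom := by
    apply le_antisymm
    · rw [Ideal.span_le]
      rintro _ rfl
      change π (x h i) = 0
      rw [x, hπ, toPolyQ_mk, toPoly_X_self, map_zero]
    · intro b hb
      exact mem_span_of_map_eq_zero hϖ h i _
        (IsFractionRing.injective (Polynomial (IsLocalRing.ResidueField V)) _) π hπ b hb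
  rw [h1]
  exact RingHom.ker_isPrime _

include hϖ hh in
theorem oth_notMem (i : Fin 2) : x h (oth i) ∉ Ideal.span {x h i} := by
  obtain ⟨π, hπ⟩ := exists_frac hϖ h i hh
  intro hmem
  obtain ⟨c, hc⟩ := Ideal.mem_span_singleton.1 hmem
  have h1 : π (x h (oth i)) = 0 := by
    rw [hc, map_mul, show π (x h i) = 0 by rw [x, hπ, toPolyQ_mk, toPoly_X_self, map_zero],
      zero_mul]
  rw [x, hπ, toPolyQ_mk, toPoly_X_oth] at h1
  have h2 : (Polynomial.X : Polynomial (IsLocalRing.ResidueField V)) = 0 :=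
    (IsFractionRing.injective (Polynomial (IsLocalRing.ResidueField V))
      (FractionRing (Polynomial (IsLocalRing.ResidueField V)))) (by rw [map_zero]; exact h1)
  exact Polynomial.X_ne_zero h2

include hϖ hh in
theorem span_ne_top : Ideal.span {x h 0, x h 1} ≠ ⊤ := by
  obtain ⟨π, hπ⟩ := exists_point hϖ h 0 hh
  intro htop
  have h1 : Ideal.span {x h 0, x h 1} ≤ RingHom.ker π.toRingHom := by
    rw [Ideal.span_le]
    have h2 : ∀ i, π (x h i) = 0 := by
      intro i
      rw [x, hπ, toPolyQ_mk]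
      rcases eq_or_oth 0 i with rfl | rfl
      · rw [toPoly_X_self, map_zero]
      · rw [toPoly_X_oth]
        change Polynomial.aeval (0 : IsLocalRing.ResidueField V) Polynomial.X = 0
        rw [Polynomial.aeval_X]
    rintro _ (rfl | rfl)
    · exact h2 0
    · exact h2 1
  rw [htop, top_le_iff] at h1
  exact RingHom.ker_ne_top _ h1

omit [IsDomain V] [IsDiscreteValuationRing V] in
theorem derivation_mem (θ : Derivation V (Localization.Away h) (Localization.Away h))
    (hθ : ∀ i, θ (x h i) ∈ Ideal.span {x h 0, x h 1}) (b : Localization.Away h) :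
    θ b ∈ Ideal.span {x h 0, x h 1} := by
  let J := Ideal.span {x h 0, x h 1}
  let E : Derivation V (Localization.Away h) (Localization.Away h ⧸ J) :=
    (Submodule.mkQ J).compDer θ
  have hE : E = 0 := by
    apply derivation_eq_zero
    intro i
    exact Ideal.Quotient.eq_zero_iff_mem.2 (hθ i)
  exact Ideal.Quotient.eq_zero_iff_mem.1 (congrArg (fun E => E b) hE)

include hϖ in
/-- a divisor of `x ^ a y ^ b` which is divisible by neither `x` nor `y` is a unit -/
theorem isUnit_of_mul_eq (hh : h ∉ Ideal.span {mkQ V ϖ (X 0), mkQ V ϖ (X 1)})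
    (g : Localization.Away h) (h0 : g ∉ Ideal.span {x h 0}) (h1 : g ∉ Ideal.span {x h 1}) :
    ∀ (a b : ℕ) (c : Localization.Away h), g * c = x h 0 ^ a * x h 1 ^ b → IsUnit g := by
  have hstep : ∀ i, g ∉ Ideal.span {x h i} → ∀ c d, g * c = x h i * d → ∃ c', g * c' = d := by
    intro i hi c d hcd
    have hmem : g * c ∈ Ideal.span {x h i} := by
      rw [hcd]; exact Ideal.mul_mem_right _ _ (Ideal.mem_span_singleton_self _)
    obtain ⟨c', rfl⟩ := Ideal.mem_span_singleton.1
      (((isPrime_span hϖ h hh i).mem_or_mem hmem).resolve_left hi)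
    refine ⟨c', ?_⟩
    rw [← sub_eq_zero]
    apply x_mul_eq_zero hϖ h i
    rw [mul_sub, ← hcd]
    ring
  intro a
  induction a with
  | zero =>
    intro b
    induction b with
    | zero =>
      intro c hc
      rw [pow_zero, pow_zero, mul_one] at hc
      exact IsUnit.of_mul_eq_one _ hc
    | succ b ih =>
      intro c hc
      rw [pow_zero, one_mul, pow_succ'] at hc
      obtain ⟨c', hc'⟩ := hstep 1 h1 _ _ hc
      exact ih c' (by rw [hc', pow_zero, one_mul])
  | succ a ih =>
    intro b c hc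
    rw [pow_succ', mul_assoc] at hc
    obtain ⟨c', hc'⟩ := hstep 0 h0 _ _ hc
    exact ih b c' hc'

end comp

end K85.Node
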