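import Groth.Agent.CAlg.K85.Node

/-!
# The standard semistable node `V[x, y] / (x y - ϖ)`: étale functions on the generic fibre
-/

set_option autoImplicit false
universe u v w

namespace K85.Node

open MvPolynomial KaehlerDifferential

/-- A derivation killing an ideal descends to the quotient. -/
theorem exists_desc {V B : Type u} [CommRing V] [CommRing B] [Algebra V B] (J : Ideal B)
    (θ : Derivation V B (B ⧸ J)) (hθ : ∀ b ∈ J, θ b = 0) :
    ∃ E : Derivation V (B ⧸ J) (B ⧸ J), ∀ b, E (Ideal.Quotient.mk J b) = θ b := by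
  have key : ∀ a b, Ideal.Quotient.mk J a = Ideal.Quotient.mk J b → θ a = θ b := by
    intro a b hab
    rw [← sub_eq_zero, ← map_sub]
    exact hθ _ (Ideal.Quotient.eq.1 hab)
  let s : B ⧸ J → B := Function.surjInv Ideal.Quotient.mk_surjective
  have hs : ∀ c, Ideal.Quotient.mk J (s c) = c := Function.surjInv_eq Ideal.Quotient.mk_surjective
  have hval : ∀ b, θ (s (Ideal.Quotient.mk J b)) = θ b := fun b => key _ _ (hs _)
  refine ⟨Derivation.mk' { toFun := fun c => θ (s c), map_add' := ?_, map_smul' := ?_ } ?_, hval⟩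
  · intro a b
    rw [← map_add]
    apply key
    rw [map_add, hs, hs, hs]
  · intro v a
    simp only [RingHom.id_apply]
    rw [← θ.map_smul]
    apply key
    rw [hs, Algebra.smul_def, Algebra.smul_def, map_mul, hs]
    rfl
  · intro a b
    simp only [LinearMap.coe_mk, AddHom.coe_mk]
    have h1 : θ (s (a * b)) = θ (s a * s b) := by
      apply key
      rw [map_mul, hs, hs, hs]
    rw [h1, Derivation.leibniz]
    have h2 : ∀ (c d : B ⧸ J), s c • d = c • d := by
      intro c d
      rw [Algebra.smul_def, smul_eq_mul]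
      change Ideal.Quotient.mk J (s c) * d = _
      rw [hs]
    rw [h2, h2]

section

variable {V : Type u} [CommRing V] [IsDomain V] [IsDiscreteValuationRing V] {ϖ : V}
  (hϖ : Irreducible ϖ) (h : Q V ϖ)

omit [IsDomain V] [IsDiscreteValuationRing V] in
/-- `Ω` of the component `x_i = 0` is generated by `d x_j`. -/
theorem D_mem_span (i : Fin 2) (b : Localization.Away h) :
    D V (Localization.Away h ⧸ Ideal.span {x h i}) (Ideal.Quotient.mk _ b) ∈
      Submodule.span (Localization.Away h ⧸ Ideal.span {x h i})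
        {D V (Localization.Away h ⧸ Ideal.span {x h i}) (Ideal.Quotient.mk _ (x h (oth i)))} := by
  set J := Ideal.span {x h i}
  let N := Submodule.span (Localization.Away h ⧸ J)
        {D V (Localization.Away h ⧸ J) (Ideal.Quotient.mk _ (x h (oth i)))}
  let E₀ : Derivation V (Localization.Away h ⧸ J) (Ω[(Localization.Away h ⧸ J)⁄V] ⧸ N) :=
    (Submodule.mkQ N).compDer (D V (Localization.Away h ⧸ J))
  let E : Derivation V (Localization.Away h) (Ω[(Localization.Away h ⧸ J)⁄V] ⧸ N) :=
    E₀.compAlgebraMap (Localization.Away h)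
  have hE : E = 0 := by
    apply derivation_eq_zero
    intro l
    rcases eq_or_oth i l with rfl | rfl
    · change E₀ (Ideal.Quotient.mk J (x h l)) = 0
      rw [Ideal.Quotient.eq_zero_iff_mem.2 (Ideal.mem_span_singleton_self _), map_zero]
    · change Submodule.mkQ N (D V (Localization.Away h ⧸ J) (Ideal.Quotient.mk J (x h (oth i)))) = 0
      rw [Submodule.mkQ_apply, Submodule.Quotient.mk_eq_zero]
      exact Submodule.mem_span_singleton_self _
  have h1 : E b = 0 := congrArg (fun E => E b) hE
  exact (Submodule.Quotient.mk_eq_zero N).1 h1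

include hϖ in
/-- `Ω` of the component `x_i = 0` is torsion-free. -/
theorem D_eq_zero_of_smul (hh : h ∉ Ideal.span {mkQ V ϖ (X 0), mkQ V ϖ (X 1)}) (i : Fin 2)
    (b : Localization.Away h)
    (hb : Ideal.Quotient.mk (Ideal.span {x h i}) (x h (oth i)) •
      D V (Localization.Away h ⧸ Ideal.span {x h i}) (Ideal.Quotient.mk _ b) = 0) :
    D V (Localization.Away h ⧸ Ideal.span {x h i}) (Ideal.Quotient.mk _ b) = 0 := by
  have hmem := D_mem_span h i b
  set J := Ideal.span {x h i}
  have hJ : J.IsPrime := isPrime_span hϖ h hh i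
  obtain ⟨Φ, θ, -, -, hθ⟩ := exists_derivation h (C' := Localization.Away h ⧸ J)
    (fun l => if l = i then 0 else 1) (by
      have hz : Ideal.Quotient.mk J (x h i) = 0 :=
        Ideal.Quotient.eq_zero_iff_mem.2 (Ideal.mem_span_singleton_self _)
      change Ideal.Quotient.mk J (x h 0) * _ + Ideal.Quotient.mk J (x h 1) * _ = 0
      have hi : i = 0 ∨ i = 1 := by fin_cases i <;> simp
      rcases hi with rfl | rfl
      · rw [hz]; simp
      · rw [hz]; simp)
  obtain ⟨E, hE⟩ := exists_desc J θ (by
    intro b hb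
    obtain ⟨c, rfl⟩ := Ideal.mem_span_singleton.1 hb
    rw [Derivation.leibniz, hθ, if_pos rfl, smul_zero, add_zero, Algebra.smul_def]
    change Ideal.Quotient.mk J (x h i) * _ = 0
    rw [Ideal.Quotient.eq_zero_iff_mem.2 (Ideal.mem_span_singleton_self _), zero_mul])
  obtain ⟨c, hc⟩ := Submodule.mem_span_singleton.1 hmem
  rw [← hc] at hb ⊢
  have h1 := congrArg E.liftKaehlerDifferential hb
  rw [map_smul, map_smul, Derivation.liftKaehlerDifferential_comp_D, hE, hθ, if_neg (oth_ne i),
    map_zero, smul_eq_mul, smul_eq_mul, mul_one] at h1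
  have h2 : c = 0 := by
    refine (mul_eq_zero.1 h1).resolve_left fun h3 => ?_
    exact oth_notMem hϖ h hh i (Ideal.Quotient.eq_zero_iff_mem.1 h3)
  rw [h2]
  exact zero_smul (Localization.Away h ⧸ J)
    (D V (Localization.Away h ⧸ J) (Ideal.Quotient.mk J (x h (oth i))))

include hϖ in
/-- If `θ` is the logarithmic derivation and `x_i ∣ θ f`, then `d f` vanishes on `x_i = 0`. -/
theorem D_eq_zero (hh : h ∉ Ideal.span {mkQ V ϖ (X 0), mkQ V ϖ (X 1)}) (i : Fin 2)
    (θ : Derivation V (Localization.Away h) (Localization.Away h)) (ε : V) (hε : ε * ε = 1)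
    (hi : θ (x h i) ∈ Ideal.span {x h i}) (ho : θ (x h (oth i)) = ε • x h (oth i))
    (f : Localization.Away h) (hf : θ f ∈ Ideal.span {x h i}) :
    D V (Localization.Away h ⧸ Ideal.span {x h i}) (Ideal.Quotient.mk _ f) = 0 := by
  apply D_eq_zero_of_smul hϖ h hh i
  set J := Ideal.span {x h i}
  let ω := D V (Localization.Away h ⧸ J) (Ideal.Quotient.mk J (x h (oth i)))
  let E : Derivation V (Localization.Away h) (Ω[(Localization.Away h ⧸ J)⁄V]) :=
    (ε • x h (oth i)) • ((D V (Localization.Away h ⧸ J)).compAlgebraMap (Localization.Away h)) -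
      (LinearMap.toSpanSingleton (Localization.Away h) _ ω).compDer θ
  have hEapp : ∀ b, E b = (ε • x h (oth i)) • D V (Localization.Away h ⧸ J) (Ideal.Quotient.mk J b) -
      θ b • ω := fun b => rfl
  have hzero : ∀ b ∈ J, ∀ w : Ω[(Localization.Away h ⧸ J)⁄V], b • w = 0 := by
    intro b hb w
    rw [← algebraMap_smul (Localization.Away h ⧸ J) b w]
    change Ideal.Quotient.mk J b • w = 0
    rw [Ideal.Quotient.eq_zero_iff_mem.2 hb]
    exact zero_smul (Localization.Away h ⧸ J) w
  have hE : E = 0 := by
    apply derivation_eq_zero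
    intro l
    rw [hEapp]
    rcases eq_or_oth i l with rfl | rfl
    · rw [Ideal.Quotient.eq_zero_iff_mem.2 (Ideal.mem_span_singleton_self _), map_zero, smul_zero,
        hzero _ hi, sub_zero]
    · rw [ho, sub_self]
  have h1 := hEapp f
  rw [hE, hzero _ hf, sub_zero, Derivation.zero_apply] at h1
  have h2 := congrArg (fun w => ε • w) h1.symm
  simp only [smul_zero] at h2
  rw [← smul_assoc, ← smul_assoc, smul_eq_mul, hε, one_smul] at h2
  rw [← algebraMap_smul (Localization.Away h ⧸ J) (x h (oth i))] at h2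
  exact h2

end

end K85.Node
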