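import Groth.Agent.CAlg.K85.Node2
import Groth.Agent.CAlg.K85.EtaleLine
import Mathlib.Algebra.Polynomial.FieldDivision
import Mathlib.RingTheory.EuclideanDomain

/-!
# The standard semistable node `V[x, y] / (x y - ϖ)`: étale functions on the generic fibre, II
-/

set_option autoImplicit false
universe u v w

namespace K85.Node

open MvPolynomial KaehlerDifferential

/-- In characteristic zero a fraction with zero derivative is constant. -/
theorem exists_C_mul {k : Type u} [Field k] [CharZero k] (a b : Polynomial k) (hb : b ≠ 0)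
    (h : b * Polynomial.derivative a = a * Polynomial.derivative b) :
    ∃ c : k, a = Polynomial.C c * b := by
  classical
  obtain ⟨g, a₁, b₁, hcop, ha₁, hb₁⟩ : ∃ g a₁ b₁ : Polynomial k, IsCoprime a₁ b₁ ∧ a = g * a₁ ∧ b = g * b₁ := by
    have hg : EuclideanDomain.gcd a b ≠ 0 := fun h0 => hb (EuclideanDomain.gcd_eq_zero_iff.1 h0).2
    obtain ⟨a₁, ha₁⟩ := EuclideanDomain.gcd_dvd_left a b
    obtain ⟨b₁, hb₁⟩ := EuclideanDomain.gcd_dvd_right a b
    refine ⟨_, a₁, b₁, ?_, ha₁, hb₁⟩
    refine ⟨EuclideanDomain.gcdA a b, EuclideanDomain.gcdB a b, ?_⟩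
    have h1 := EuclideanDomain.gcd_eq_gcd_ab a b
    apply mul_left_cancel₀ hg
    rw [mul_one]
    calc EuclideanDomain.gcd a b * (EuclideanDomain.gcdA a b * a₁ + EuclideanDomain.gcdB a b * b₁)
        = (EuclideanDomain.gcd a b * a₁) * EuclideanDomain.gcdA a b +
          (EuclideanDomain.gcd a b * b₁) * EuclideanDomain.gcdB a b := by ring
      _ = a * EuclideanDomain.gcdA a b + b * EuclideanDomain.gcdB a b := by rw [← ha₁, ← hb₁]
      _ = EuclideanDomain.gcd a b := h1.symm
  have hg0 : g ≠ 0 := by rintro rfl; exact hb (by rw [hb₁, zero_mul])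
  have hb0 : b₁ ≠ 0 := by rintro rfl; exact hb (by rw [hb₁, mul_zero])
  have hw : Polynomial.wronskian a₁ b₁ = 0 := by
    have h2 : g * g * Polynomial.wronskian a₁ b₁ = 0 := by
      rw [Polynomial.wronskian]
      rw [ha₁, hb₁, Polynomial.derivative_mul, Polynomial.derivative_mul] at h
      linear_combination -h
    exact (mul_eq_zero.1 h2).resolve_left (mul_ne_zero hg0 hg0)
  obtain ⟨h3, h4⟩ := (hcop.wronskian_eq_zero_iff).1 hw
  have h5 := Polynomial.eq_C_of_natDegree_eq_zero (Polynomial.derivative_eq_zero.1 h3)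
  have h6 := Polynomial.eq_C_of_natDegree_eq_zero (Polynomial.derivative_eq_zero.1 h4)
  have h7 : b₁.coeff 0 ≠ 0 := by
    intro h0
    rw [h0, Polynomial.C_0] at h6
    exact hb0 h6
  refine ⟨a₁.coeff 0 / b₁.coeff 0, ?_⟩
  rw [ha₁, hb₁, h5, h6]
  simp only [Polynomial.coeff_C_zero]
  rw [mul_left_comm, ← Polynomial.C_mul, div_mul_cancel₀ _ h7]

variable {V : Type u} [CommRing V] [IsDomain V] [IsDiscreteValuationRing V] {ϖ : V}
  (hϖ : Irreducible ϖ) (h : Q V ϖ) (hh : h ∉ Ideal.span {mkQ V ϖ (X 0), mkQ V ϖ (X 1)})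

include hϖ hh in
/-- An étale function on the generic fibre has differential vanishing on one of the components. -/
theorem dichotomy (f : Localization.Away h)
    (hf : ((algebraMap (Localization.Away h)
        (Localization.Away (algebraMap V (Localization.Away h) ϖ))).comp
          (Polynomial.aeval f : Polynomial V →ₐ[V] Localization.Away h).toRingHom).Etale) :
    D V (Localization.Away h ⧸ Ideal.span {x h 0}) (Ideal.Quotient.mk _ f) = 0 ∨
      D V (Localization.Away h ⧸ Ideal.span {x h 1}) (Ideal.Quotient.mk _ f) = 0 := by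
  obtain ⟨-, θ, -, -, hθ⟩ := exists_derivation h (C' := Localization.Away h)
    (fun l => if l = 0 then x h 0 else - x h 1) (by
      rw [if_pos rfl, if_neg one_ne_zero, Algebra.algebraMap_self, RingHom.id_apply, RingHom.id_apply]
      ring)
  have hθ0 : θ (x h 0) = x h 0 := by rw [hθ, if_pos rfl]
  have hθ1 : θ (x h 1) = - x h 1 := by rw [hθ, if_neg one_ne_zero]
  have hmem : θ f ∈ Ideal.span {x h 0, x h 1} := by
    apply derivation_mem h θ
    intro i
    have hi : i = 0 ∨ i = 1 := by fin_cases i <;> simp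
    rcases hi with rfl | rfl
    · rw [hθ0]; exact Ideal.subset_span (by simp)
    · rw [hθ1]; exact neg_mem (Ideal.subset_span (by simp))
  have hnu : ¬ IsUnit (θ f) := fun hu => span_ne_top hϖ h hh (Ideal.eq_top_of_isUnit_mem _ hmem hu)
  have hor : θ f ∈ Ideal.span {x h 0} ∨ θ f ∈ Ideal.span {x h 1} := by
    by_contra hcon
    push Not at hcon
    obtain ⟨m, c, hc⟩ := K85.EtaleLine.exists_pow_mul (algebraMap V (Localization.Away h) ϖ) f hf θ (x h 0)
    refine hnu (isUnit_of_mul_eq hϖ h hh (θ f) hcon.1 hcon.2 (m + 1) (m + 1) (c * x h 1) ?_)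
    rw [hθ0] at hc
    rw [← mul_pow, pow_succ, x_mul]
    calc θ f * (c * x h 1) = (c * θ f) * x h 1 := by ring
      _ = algebraMap V (Localization.Away h) ϖ ^ m * x h 0 * x h 1 := by rw [hc]
      _ = _ := by rw [mul_assoc, x_mul]
  rcases hor with h0 | h1
  · left
    exact D_eq_zero hϖ h hh 0 θ (-1) (by ring)
      (by rw [hθ0]; exact Ideal.mem_span_singleton_self _)
      (by change θ (x h 1) = (-1 : V) • x h 1; rw [hθ1, neg_smul, one_smul]) f h0
  · right
    exact D_eq_zero hϖ h hh 1 θ 1 (by ring)
      (by rw [hθ1]; exact neg_mem (Ideal.mem_span_singleton_self _))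
      (by change θ (x h 0) = (1 : V) • x h 0; rw [hθ0, one_smul]) f h1

include hϖ hh in
/-- If the residue field has characteristic zero then a function whose differential vanishes on a
component is constant there, and the morphism to the line is not quasi-finite. -/
theorem not_quasiFinite [CharZero (IsLocalRing.ResidueField V)] (f : Localization.Away h) (i : Fin 2)
    (hf : D V (Localization.Away h ⧸ Ideal.span {x h i}) (Ideal.Quotient.mk _ f) = 0) :
    ¬ (Polynomial.aeval f : Polynomial V →ₐ[V] Localization.Away h).toRingHom.QuasiFinite := by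
  obtain ⟨π, hπ⟩ := exists_frac hϖ h i hh
  obtain ⟨π₀, hπ₀⟩ := exists_point hϖ h i hh
  set k := IsLocalRing.ResidueField V
  set L := FractionRing (Polynomial k)
  have hinj : Function.Injective (algebraMap (Polynomial k) L) :=
    IsFractionRing.injective (Polynomial k) L
  have hπ' : ∀ q, π (algebraMap (Q V ϖ) (Localization.Away h) q) =
      algebraMap (Polynomial k) L (toPolyQ hϖ i q) := hπ
  set J := Ideal.span {x h i}
  have hJker : ∀ b ∈ J, π b = 0 := by
    intro b hb
    obtain ⟨c, rfl⟩ := Ideal.mem_span_singleton.1 hb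
    rw [map_mul, x, hπ', toPolyQ_mk, toPoly_X_self, map_zero, zero_mul]
  -- the function field of the component
  let πJ : (Localization.Away h ⧸ J) →ₐ[V] L := Ideal.Quotient.liftₐ J π hJker
  let _ : Algebra (Localization.Away h ⧸ J) L := πJ.toRingHom.toAlgebra
  have _ : IsScalarTower V (Localization.Away h ⧸ J) L :=
    IsScalarTower.of_algebraMap_eq fun v => (πJ.commutes v).symm
  have hD : D V L (π f) = 0 := by
    have h1 := congrArg (KaehlerDifferential.map V V (Localization.Away h ⧸ J) L) hf
    rw [KaehlerDifferential.map_D, map_zero] at h1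
    exact h1
  obtain ⟨⟨q, ⟨_, n, rfl⟩⟩, hq⟩ := IsLocalization.surj (Submonoid.powers h) f
  simp only at hq
  set a := toPolyQ hϖ i q with ha
  set b := toPolyQ hϖ i (h ^ n) with hb
  have hb0 : b ≠ 0 := by
    rw [hb, map_pow]
    exact pow_ne_zero _ (toPolyQ_ne_zero hϖ h hh i)
  have hfb : π f * algebraMap (Polynomial k) L b = algebraMap (Polynomial k) L a := by
    rw [hb, ← hπ', ← map_mul, hq, hπ']
  -- the derivative of `a / b` vanishes
  have hder : b * Polynomial.derivative a = a * Polynomial.derivative b := by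
    have h1 : algebraMap (Polynomial k) L b • D V L (algebraMap (Polynomial k) L a) =
        algebraMap (Polynomial k) L a • D V L (algebraMap (Polynomial k) L b) := by
      conv_lhs => rw [← hfb]
      rw [Derivation.leibniz, hD, smul_zero, add_zero, smul_smul, mul_comm, hfb]
    have h2 : KaehlerDifferential.map V V (Polynomial k) L
        (b • D V (Polynomial k) a - a • D V (Polynomial k) b) = 0 := by
      rw [map_sub, map_smul, map_smul, KaehlerDifferential.map_D, KaehlerDifferential.map_D,
        ← algebraMap_smul L b, ← algebraMap_smul L a, h1, sub_self]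
    rw [IsLocalizedModule.eq_zero_iff (nonZeroDivisors (Polynomial k))] at h2
    obtain ⟨⟨s, hs⟩, hs'⟩ := h2
    let δ : Derivation V (Polynomial k) (Polynomial k) :=
      (Polynomial.derivative' : Derivation k (Polynomial k) (Polynomial k)).restrictScalars V
    have h3 := congrArg δ.liftKaehlerDifferential hs'
    rw [map_zero] at h3
    change δ.liftKaehlerDifferential (s • _) = 0 at h3
    rw [map_smul, map_sub, map_smul, map_smul, Derivation.liftKaehlerDifferential_comp_D,
      Derivation.liftKaehlerDifferential_comp_D, smul_eq_mul] at h3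
    have h4 := (mul_eq_zero.1 h3).resolve_left (nonZeroDivisors.ne_zero hs)
    exact sub_eq_zero.1 h4
  obtain ⟨c, hc⟩ := exists_C_mul a b hb0 hder
  have hπf : π f = algebraMap (Polynomial k) L (Polynomial.C c) := by
    have hb1 : algebraMap (Polynomial k) L b ≠ 0 := by
      rw [Ne, map_eq_zero_iff _ hinj]; exact hb0
    apply mul_right_cancel₀ hb1
    rw [hfb, hc, map_mul]
  have hπ₀f : π₀ f = c := by
    have hb1 : evalZero V b ≠ 0 := by
      rw [hb, map_pow, map_pow]
      exact pow_ne_zero _ (evalZero_ne_zero hϖ h hh i)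
    apply mul_right_cancel₀ hb1
    rw [hb, ← hπ₀, ← map_mul, hq, hπ₀, ← ha, hc, map_mul, hb, hπ₀]
    congr 1
    change Polynomial.aeval (0 : k) (Polynomial.C c) = c
    rw [Polynomial.aeval_C, Algebra.algebraMap_self, RingHom.id_apply]
  -- two primes of the same fibre
  intro hqf
  let φ : Polynomial V →ₐ[V] Localization.Away h := Polynomial.aeval f
  let _ : Algebra (Polynomial V) (Localization.Away h) := φ.toRingHom.toAlgebra
  have hqf' : Algebra.QuasiFinite (Polynomial V) (Localization.Away h) := hqf
  have hP : (RingHom.ker π.toRingHom).IsPrime := RingHom.ker_isPrime _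
  have hQ : (RingHom.ker π₀.toRingHom).IsPrime := RingHom.ker_isPrime _
  have hPQ : RingHom.ker π.toRingHom ≤ RingHom.ker π₀.toRingHom := by
    intro b hb
    have h1 : b ∈ J := mem_span_of_map_eq_zero hϖ h i _ hinj π hπ b hb
    obtain ⟨d, rfl⟩ := Ideal.mem_span_singleton.1 h1
    change π₀ (x h i * d) = 0
    rw [map_mul, x, hπ₀, toPolyQ_mk, toPoly_X_self, map_zero, zero_mul]
  have hcomp : ∀ p : Polynomial V, π (φ p) = algebraMap (Polynomial k) L
      (Polynomial.C (Polynomial.aeval c p)) := by
    intro p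
    have h1 : π (φ p) = Polynomial.aeval (π f) p := (Polynomial.aeval_algHom_apply π f p).symm
    rw [h1, hπf]
    have h2 : Polynomial.aeval (algebraMap (Polynomial k) L (Polynomial.C c)) p =
        ((IsScalarTower.toAlgHom V (Polynomial k) L).comp (IsScalarTower.toAlgHom V k (Polynomial k)))
          (Polynomial.aeval c p) := by
      rw [← Polynomial.aeval_algHom_apply]
      rfl
    rw [h2]
    rfl
  have hcomp₀ : ∀ p : Polynomial V, π₀ (φ p) = Polynomial.aeval c p := by
    intro p
    have h1 : π₀ (φ p) = Polynomial.aeval (π₀ f) p := (Polynomial.aeval_algHom_apply π₀ f p).symm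
    rw [h1, hπ₀f]
  have hunder : (RingHom.ker π.toRingHom).under (Polynomial V) =
      (RingHom.ker π₀.toRingHom).under (Polynomial V) := by
    ext p
    rw [Ideal.under_def, Ideal.under_def, Ideal.mem_comap, Ideal.mem_comap]
    change π (φ p) = 0 ↔ π₀ (φ p) = 0
    rw [hcomp, hcomp₀, map_eq_zero_iff _ hinj, Polynomial.C_eq_zero]
  have heq := Algebra.QuasiFinite.eq_of_le_of_under_eq (R := Polynomial V) _ _ hPQ hunder
  have hmem : x h (oth i) ∈ RingHom.ker π₀.toRingHom := by
    change π₀ (x h (oth i)) = 0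
    rw [x, hπ₀, toPolyQ_mk, toPoly_X_oth]
    change Polynomial.aeval (0 : k) Polynomial.X = 0
    rw [Polynomial.aeval_X]
  rw [← heq] at hmem
  change π (x h (oth i)) = 0 at hmem
  rw [x, hπ', toPolyQ_mk, toPoly_X_oth, map_eq_zero_iff _ hinj] at hmem
  exact Polynomial.X_ne_zero hmem

end K85.Node
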