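import Groth.Agent.Ega4B.DimFT
import Mathlib.RingTheory.NoetherNormalization
import Mathlib.RingTheory.AlgebraicIndependent.TranscendenceBasis
import Mathlib.RingTheory.KrullDimension.Basic
import Mathlib.RingTheory.FiniteType

/-!
# Noether normalization by `N`-th powers, over two fields at the same time
-/

set_option autoImplicit false
universe u v w

namespace K85.NoetherPow

open MvPolynomial

section field

variable {k : Type u} [Field k] {n : ℕ}

/-- `X_n ↦ X`, `X_j ↦ X_j - X ^ (q ^ (j + 1))` for `j < n`. -/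
noncomputable def subst (k : Type u) [Field k] (n q : ℕ) :
    MvPolynomial (Fin (n + 1)) k →ₐ[k] Polynomial (MvPolynomial (Fin n) k) :=
  aeval (Fin.snoc (α := fun _ => Polynomial (MvPolynomial (Fin n) k))
    (fun j => Polynomial.C (X j) - Polynomial.X ^ (q ^ ((j : ℕ) + 1))) Polynomial.X)

theorem subst_monomial (q : ℕ) (v : Fin (n + 1) →₀ ℕ) (a : k) :
    subst k n q (monomial v a) = Polynomial.C (C a) * ((∏ j : Fin n,
      (Polynomial.C (X j) - Polynomial.X ^ (q ^ ((j : ℕ) + 1))) ^ v j.castSucc) *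
        Polynomial.X ^ v (Fin.last n)) := by
  rw [subst, aeval_monomial, Finsupp.prod_fintype _ _ (fun i => pow_zero _), Fin.prod_univ_castSucc]
  simp only [Fin.snoc_castSucc, Fin.snoc_last]
  rfl

theorem natDegree_lin (j : Fin n) {m : ℕ} (_ : 0 < m) :
    (Polynomial.C (X j : MvPolynomial (Fin n) k) - Polynomial.X ^ m).natDegree = m := by
  rw [← Polynomial.natDegree_neg, neg_sub, Polynomial.natDegree_X_pow_sub_C]

theorem leadingCoeff_lin (j : Fin n) {m : ℕ} (hm : 0 < m) :
    (Polynomial.C (X j : MvPolynomial (Fin n) k) - Polynomial.X ^ m).leadingCoeff = -1 := by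
  rw [← neg_neg (Polynomial.C (X j : MvPolynomial (Fin n) k) - Polynomial.X ^ m), neg_sub,
    Polynomial.leadingCoeff_neg, Polynomial.leadingCoeff_X_pow_sub_C hm]

theorem lin_ne_zero (j : Fin n) {m : ℕ} (hm : 0 < m) :
    (Polynomial.C (X j : MvPolynomial (Fin n) k) - Polynomial.X ^ m) ≠ 0 := by
  rw [← Polynomial.leadingCoeff_ne_zero, leadingCoeff_lin j hm]
  exact neg_ne_zero.2 one_ne_zero

theorem leadingCoeff_subst_monomial {q : ℕ} (hq : 0 < q) (v : Fin (n + 1) →₀ ℕ) {a : k} (ha : a ≠ 0) :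
    IsUnit (subst k n q (monomial v a)).leadingCoeff := by
  rw [subst_monomial, Polynomial.leadingCoeff_mul, Polynomial.leadingCoeff_C,
    Polynomial.leadingCoeff_mul, Polynomial.leadingCoeff_X_pow, mul_one, Polynomial.leadingCoeff_prod]
  refine IsUnit.mul (ha.isUnit.map C) ?_
  rw [IsUnit.prod_iff]
  intro j _
  rw [Polynomial.leadingCoeff_pow, leadingCoeff_lin j (pow_pos hq _)]
  exact (isUnit_one.neg).pow _

theorem natDegree_subst_monomial {q : ℕ} (hq : 0 < q) (v : Fin (n + 1) →₀ ℕ) {a : k} (ha : a ≠ 0) :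
    (subst k n q (monomial v a)).natDegree =
      v (Fin.last n) + ∑ j : Fin n, q ^ ((j : ℕ) + 1) * v j.castSucc := by
  have h1 : ∀ j ∈ (Finset.univ : Finset (Fin n)), (Polynomial.C (X j : MvPolynomial (Fin n) k) -
      Polynomial.X ^ (q ^ ((j : ℕ) + 1))) ^ v j.castSucc ≠ 0 :=
    fun j _ => pow_ne_zero _ (lin_ne_zero j (pow_pos hq _))
  have h2 : (Polynomial.X ^ v (Fin.last n) : Polynomial (MvPolynomial (Fin n) k)) ≠ 0 :=
    pow_ne_zero _ Polynomial.X_ne_zero
  have h3 : (C a : MvPolynomial (Fin n) k) ≠ 0 := by simpa using ha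
  rw [subst_monomial, Polynomial.natDegree_mul (by simpa using h3)
    (mul_ne_zero (Finset.prod_ne_zero_iff.2 h1) h2), Polynomial.natDegree_C, zero_add,
    Polynomial.natDegree_mul (Finset.prod_ne_zero_iff.2 h1) h2, Polynomial.natDegree_X_pow,
    Polynomial.natDegree_prod _ _ h1, add_comm]
  congr 1
  refine Finset.sum_congr rfl fun j _ => ?_
  rw [Polynomial.natDegree_pow, natDegree_lin j (pow_pos hq _), mul_comm]

/-- expansions in base `q` are unique -/
theorem sum_injective (n : ℕ) {q : ℕ} (hq : 0 < q) : ∀ (v w : Fin n → ℕ), (∀ i, v i < q) →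
    (∀ i, w i < q) → ∑ j : Fin n, q ^ (j : ℕ) * v j = ∑ j : Fin n, q ^ (j : ℕ) * w j → v = w := by
  induction n with
  | zero => intro v w _ _ _; exact Subsingleton.elim _ _
  | succ n ih =>
    intro v w hv hw h
    rw [Fin.sum_univ_succ, Fin.sum_univ_succ] at h
    simp only [Fin.val_zero, pow_zero, one_mul, Fin.val_succ, pow_succ'] at h
    simp only [mul_assoc, ← Finset.mul_sum] at h
    have h0 : v 0 = w 0 := by
      have h1 := congrArg (· % q) h
      simp only [Nat.add_mul_mod_self_left, Nat.mod_eq_of_lt (hv 0), Nat.mod_eq_of_lt (hw 0)] at h1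
      exact h1
    rw [h0] at h
    have h2 := Nat.eq_of_mul_eq_mul_left hq (Nat.add_left_cancel h)
    have h3 := ih (fun i => v i.succ) (fun i => w i.succ) (fun i => hv _) (fun i => hw _) h2
    funext i
    refine Fin.cases h0 (fun j => congrFun h3 j) i

theorem natDegree_ne {q : ℕ} (hq : 0 < q) (v w : Fin (n + 1) →₀ ℕ) (hv : ∀ i, v i < q)
    (hw : ∀ i, w i < q) (hne : v ≠ w) :
    v (Fin.last n) + ∑ j : Fin n, q ^ ((j : ℕ) + 1) * v j.castSucc ≠
      w (Fin.last n) + ∑ j : Fin n, q ^ ((j : ℕ) + 1) * w j.castSucc := by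
  intro h
  have h1 := sum_injective (n + 1) hq (Fin.cons (v (Fin.last n)) fun j => v j.castSucc)
    (Fin.cons (w (Fin.last n)) fun j => w j.castSucc)
    (fun i => by refine Fin.cases ?_ (fun j => ?_) i <;> simp [hv])
    (fun i => by refine Fin.cases ?_ (fun j => ?_) i <;> simp [hw])
    (by simpa [Fin.sum_univ_succ] using h)
  apply hne
  ext i
  refine Fin.lastCases ?_ (fun j => ?_) i
  · have := congrFun h1 0
    simpa using this
  · have := congrFun h1 j.succ
    simpa using this

/-- The key point of Nagata's trick. -/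
theorem isUnit_leadingCoeff {q : ℕ} (f : MvPolynomial (Fin (n + 1)) k) (hf : f ≠ 0)
    (hq : ∀ v ∈ f.support, ∀ i, v i < q) : IsUnit (subst k n q f).leadingCoeff := by
  classical
  obtain ⟨v, hv, hmax⟩ := Finset.exists_max_image f.support
    (fun v => v (Fin.last n) + ∑ j : Fin n, q ^ ((j : ℕ) + 1) * v j.castSucc)
    (support_nonempty.2 hf)
  have hq0 : 0 < q := lt_of_le_of_lt (Nat.zero_le _) (hq v hv 0)
  have hc : ∀ w ∈ f.support, coeff w f ≠ 0 := fun w hw => mem_support_iff.1 hw
  have hsum : subst k n q f = ∑ w ∈ f.support \ {v}, subst k n q (monomial w (coeff w f)) +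
      subst k n q (monomial v (coeff v f)) := by
    conv_lhs => rw [← f.support_sum_monomial_coeff]
    rw [map_sum, Finset.sum_eq_add_sum_sdiff_singleton_of_mem hv, add_comm]
  have hunit := leadingCoeff_subst_monomial (k := k) hq0 v (hc v hv)
  have hne : subst k n q (monomial v (coeff v f)) ≠ 0 := by
    rw [← Polynomial.leadingCoeff_ne_zero]
    exact hunit.ne_zero
  rw [hsum, Polynomial.leadingCoeff_add_of_degree_lt]
  · exact hunit
  · refine lt_of_le_of_lt (Polynomial.degree_sum_le _ _) ?_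
    rw [Finset.sup_lt_iff (by rw [bot_lt_iff_ne_bot, Ne, Polynomial.degree_eq_bot]; exact hne)]
    intro w hw
    rw [Finset.mem_sdiff, Finset.mem_singleton] at hw
    apply Polynomial.degree_lt_degree
    rw [natDegree_subst_monomial hq0 w (hc w hw.1), natDegree_subst_monomial hq0 v (hc v hv)]
    exact lt_of_le_of_ne (hmax w hw.1) (natDegree_ne hq0 w v (hq w hw.1) (hq v hv) hw.2)

variable {B : Type v} [CommRing B] [Algebra k B]

theorem aeval_subst (q : ℕ) (b : Fin (n + 1) → B) (f : MvPolynomial (Fin (n + 1)) k) :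
    Polynomial.eval₂ (aeval (fun j : Fin n => b j.castSucc + b (Fin.last n) ^ (q ^ ((j : ℕ) + 1))) :
      MvPolynomial (Fin n) k →ₐ[k] B).toRingHom (b (Fin.last n)) (subst k n q f) = aeval b f := by
  induction f using MvPolynomial.induction_on with
  | C a =>
    rw [subst, algHom_C, algHom_C]
    change Polynomial.eval₂ _ _ (Polynomial.C (C a)) = _
    rw [Polynomial.eval₂_C]
    exact (aeval _).commutes a
  | add f g hf hg => rw [map_add, map_add, Polynomial.eval₂_add, hf, hg]
  | mul_X f i hf =>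
    rw [map_mul, map_mul, Polynomial.eval₂_mul, hf, aeval_X]
    congr 1
    rw [subst, aeval_X]
    refine Fin.lastCases ?_ (fun j => ?_) i
    · rw [Fin.snoc_last, Polynomial.eval₂_X]
    · rw [Fin.snoc_castSucc, Polynomial.eval₂_sub, Polynomial.eval₂_C, Polynomial.eval₂_pow,
        Polynomial.eval₂_X]
      change aeval _ (X j) - _ = _
      rw [aeval_X, add_sub_cancel_right]

/-- Eliminating the last generator. -/
theorem isIntegral_step (b : Fin (n + 1) → B)
    (hint : (aeval b : MvPolynomial (Fin (n + 1)) k →ₐ[k] B).toRingHom.IsIntegral)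
    (f : MvPolynomial (Fin (n + 1)) k) (hf : f ≠ 0) (hfb : aeval b f = 0) (q : ℕ)
    (hq : ∀ v ∈ f.support, ∀ i, v i < q) :
    (aeval (fun j : Fin n => b j.castSucc + b (Fin.last n) ^ (q ^ ((j : ℕ) + 1))) :
      MvPolynomial (Fin n) k →ₐ[k] B).toRingHom.IsIntegral := by
  set b' : Fin n → B := fun j => b j.castSucc + b (Fin.last n) ^ (q ^ ((j : ℕ) + 1)) with hb'
  set φ : MvPolynomial (Fin n) k →ₐ[k] B := aeval b'
  let _ : Algebra (MvPolynomial (Fin n) k) B := φ.toRingHom.toAlgebra
  have _ : IsScalarTower k (MvPolynomial (Fin n) k) B :=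
    IsScalarTower.of_algebraMap_eq fun x => (φ.commutes x).symm
  -- the last generator is integral
  have hlast : IsIntegral (MvPolynomial (Fin n) k) (b (Fin.last n)) := by
    obtain ⟨u, hu⟩ := isUnit_leadingCoeff f hf hq
    refine ⟨Polynomial.C ((u⁻¹ : (MvPolynomial (Fin n) k)ˣ) : MvPolynomial (Fin n) k) *
      subst k n q f, ?_, ?_⟩
    · rw [Polynomial.Monic, Polynomial.leadingCoeff_mul, Polynomial.leadingCoeff_C, ← hu,
        Units.inv_mul]
    · rw [Polynomial.eval₂_mul]
      have h1 : Polynomial.eval₂ (algebraMap (MvPolynomial (Fin n) k) B) (b (Fin.last n))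
          (subst k n q f) = aeval b f := aeval_subst q b f
      rw [h1, hfb, mul_zero]
  have hb : ∀ i, b i ∈ integralClosure (MvPolynomial (Fin n) k) B := by
    intro i
    refine Fin.lastCases hlast (fun j => ?_) i
    have h1 : b j.castSucc = b' j - b (Fin.last n) ^ (q ^ ((j : ℕ) + 1)) := by
      rw [hb']; simp
    rw [h1]
    refine sub_mem ?_ (pow_mem hlast _)
    have h2 : b' j = algebraMap (MvPolynomial (Fin n) k) B (X j) := (aeval_X b' j).symm
    rw [h2]
    exact algebraMap_mem _ _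
  have hrange : ∀ g : MvPolynomial (Fin (n + 1)) k,
      aeval b g ∈ integralClosure (MvPolynomial (Fin n) k) B := by
    intro g
    induction g using MvPolynomial.induction_on with
    | C a =>
      rw [algHom_C, IsScalarTower.algebraMap_apply k (MvPolynomial (Fin n) k) B]
      exact algebraMap_mem _ _
    | add f g hf hg => rw [map_add]; exact add_mem hf hg
    | mul_X f i hf => rw [map_mul, aeval_X]; exact mul_mem hf (hb i)
  intro y
  change IsIntegral (MvPolynomial (Fin n) k) y
  let ψ : MvPolynomial (Fin (n + 1)) k →+* integralClosure (MvPolynomial (Fin n) k) B :=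
    (aeval b : MvPolynomial (Fin (n + 1)) k →ₐ[k] B).toRingHom.codRestrict _ hrange
  have hy : IsIntegral (integralClosure (MvPolynomial (Fin n) k) B) y := by
    obtain ⟨P, hP1, hP2⟩ := hint y
    refine ⟨P.map ψ, hP1.map ψ, ?_⟩
    rw [Polynomial.eval₂_map]
    exact hP2
  exact isIntegral_trans y hy

/-- More elements than the dimension are algebraically dependent. -/
theorem not_injective [Algebra.FiniteType k B] {d n : ℕ} (hd : ringKrullDim B ≤ d) (hn : d < n)
    (b : Fin n → B) : ¬ Function.Injective (aeval b : MvPolynomial (Fin n) k →ₐ[k] B) := by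
  intro hinj
  set φ : MvPolynomial (Fin n) k →ₐ[k] B := aeval b
  -- a prime of `B` lying over zero
  let S : Submonoid B := (nonZeroDivisors (MvPolynomial (Fin n) k)).map φ
  have hS : Disjoint ((⊥ : Ideal B) : Set B) (S : Set B) := by
    rw [Set.disjoint_left]
    rintro x hx ⟨y, hy, rfl⟩
    have h1 : φ y = φ 0 := by rw [map_zero]; exact hx
    exact nonZeroDivisors.ne_zero hy (hinj h1)
  obtain ⟨P, hP, -, hdisj⟩ := Ideal.exists_le_prime_disjoint _ _ hS
  have hinj' : Function.Injective ((Ideal.Quotient.mkₐ k P).comp φ) := by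
    rw [injective_iff_map_eq_zero]
    intro x hx
    by_contra hx0
    have h1 : φ x ∈ P := Ideal.Quotient.eq_zero_iff_mem.1 hx
    exact Set.disjoint_left.1 hdisj h1 ⟨x, mem_nonZeroDivisors_of_ne_zero hx0, rfl⟩
  have hai : AlgebraicIndependent k (fun i => Ideal.Quotient.mkₐ k P (b i)) := by
    rw [algebraicIndependent_iff_injective_aeval]
    have h2 : (aeval fun i => Ideal.Quotient.mkₐ k P (b i)) = (Ideal.Quotient.mkₐ k P).comp φ := by
      ext i
      simp [φ]
    rw [h2]
    exact hinj'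
  obtain ⟨m, hm1, hm2⟩ := Groth.Agent.Ega4B.DimFT.exists_dim k (B ⧸ P)
  have h3 := hai.lift_cardinalMk_le_trdeg
  rw [hm1] at h3
  simp only [Cardinal.mk_fin, Cardinal.lift_natCast, Nat.cast_le] at h3
  have h4 : ringKrullDim (B ⧸ P) ≤ ringKrullDim B :=
    ringKrullDim_le_of_surjective _ Ideal.Quotient.mk_surjective
  rw [hm2] at h4
  have h5 : ((m : ℕ) : WithBot ℕ∞) ≤ d := h4.trans hd
  have h6 : m ≤ d := by exact_mod_cast h5
  omega

theorem exists_bound {n : ℕ} (f : MvPolynomial (Fin n) k) :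
    ∃ q : ℕ, ∀ q', q ≤ q' → ∀ v ∈ f.support, ∀ i, v i < q' := by
  refine ⟨f.totalDegree + 1, fun q' hq' v hv i => ?_⟩
  have h1 : v i ≤ f.totalDegree := (monomial_le_degreeOf i hv).trans (degreeOf_le_totalDegree f i)
  omega

end field

/-- Noether normalization by `N`-th powers, over two fields at the same time. -/
theorem exists_pow {R : Type u} [CommRing R] {k₁ : Type u} [Field k₁] {B₁ : Type v} [CommRing B₁]
    [Algebra k₁ B₁] {k₂ : Type u} [Field k₂] {B₂ : Type v} [CommRing B₂] [Algebra k₂ B₂]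
    (ρ₁ : R →+* B₁) (ρ₂ : R →+* B₂) (d : ℕ)
    (H₁ : ∀ (n : ℕ) (b : Fin n → B₁), d < n →
      ¬ Function.Injective (aeval b : MvPolynomial (Fin n) k₁ →ₐ[k₁] B₁))
    (H₂ : ∀ (n : ℕ) (b : Fin n → B₂), d < n →
      ¬ Function.Injective (aeval b : MvPolynomial (Fin n) k₂ →ₐ[k₂] B₂))
    (N : ℕ) (hN : 1 ≤ N) (m : ℕ) : ∀ (b : Fin (d + m) → R),
    (aeval (fun i => ρ₁ (b i)) : MvPolynomial (Fin (d + m)) k₁ →ₐ[k₁] B₁).toRingHom.IsIntegral →
    (aeval (fun i => ρ₂ (b i)) : MvPolynomial (Fin (d + m)) k₂ →ₐ[k₂] B₂).toRingHom.IsIntegral →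
    ∃ y : Fin d → R, (∀ i, y i ∈ Subring.closure (Set.range fun r : R => r ^ N)) ∧
      (aeval (fun i => ρ₁ (b (Fin.castAdd m i) + y i)) :
        MvPolynomial (Fin d) k₁ →ₐ[k₁] B₁).toRingHom.IsIntegral ∧
      (aeval (fun i => ρ₂ (b (Fin.castAdd m i) + y i)) :
        MvPolynomial (Fin d) k₂ →ₐ[k₂] B₂).toRingHom.IsIntegral := by
  induction m with
  | zero =>
    intro b h₁ h₂
    refine ⟨0, fun i => zero_mem _, ?_, ?_⟩
    · simpa using h₁
    · simpa using h₂
  | succ m ih =>
    intro b h₁ h₂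
    obtain ⟨f₁, hf₁, hf₁'⟩ : ∃ f : MvPolynomial (Fin (d + m + 1)) k₁, f ≠ 0 ∧
        aeval (fun i => ρ₁ (b i)) f = 0 := by
      have := H₁ (d + m + 1) (fun i => ρ₁ (b i)) (by omega)
      rw [injective_iff_map_eq_zero] at this
      push Not at this
      obtain ⟨f, h1, h2⟩ := this
      exact ⟨f, h2, h1⟩
    obtain ⟨f₂, hf₂, hf₂'⟩ : ∃ f : MvPolynomial (Fin (d + m + 1)) k₂, f ≠ 0 ∧
        aeval (fun i => ρ₂ (b i)) f = 0 := by
      have := H₂ (d + m + 1) (fun i => ρ₂ (b i)) (by omega)
      rw [injective_iff_map_eq_zero] at this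
      push Not at this
      obtain ⟨f, h1, h2⟩ := this
      exact ⟨f, h2, h1⟩
    obtain ⟨q₁, hq₁⟩ := exists_bound f₁
    obtain ⟨q₂, hq₂⟩ := exists_bound f₂
    set q := N * (q₁ + q₂) with hq
    have hle : q₁ + q₂ ≤ q := by rw [hq]; exact Nat.le_mul_of_pos_left _ hN
    have s₁ := isIntegral_step (fun i => ρ₁ (b i)) h₁ f₁ hf₁ hf₁' q (hq₁ q (by omega))
    have s₂ := isIntegral_step (fun i => ρ₂ (b i)) h₂ f₂ hf₂ hf₂' q (hq₂ q (by omega))
    simp only [← map_pow, ← map_add] at s₁ s₂
    obtain ⟨y, hy, hy₁, hy₂⟩ := ih _ s₁ s₂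
    refine ⟨fun i => b (Fin.last (d + m)) ^ (q ^ ((i : ℕ) + 1)) + y i, fun i => ?_, ?_, ?_⟩
    · refine add_mem (Subring.subset_closure ?_) (hy i)
      refine ⟨b (Fin.last (d + m)) ^ ((q₁ + q₂) * q ^ (i : ℕ)), ?_⟩
      simp only []
      rw [← pow_mul, pow_succ', hq]
      congr 1
      ring
    · convert hy₁ using 4
      rw [add_assoc]
      rfl
    · convert hy₂ using 4
      rw [add_assoc]
      rfl

open TensorProduct in
/-- Base change of generators generate. -/
theorem surjective_baseChange {V : Type u} [CommRing V] {R : Type v} [CommRing R] [Algebra V R]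
    (k : Type w) [Field k] [Algebra V k] {n : ℕ} (b : Fin n → R)
    (hb : ∀ S : Subalgebra V R, (∀ i, b i ∈ S) → S = ⊤) :
    Function.Surjective (aeval (fun i => (1 : k) ⊗ₜ[V] b i) :
      MvPolynomial (Fin n) k →ₐ[k] k ⊗[V] R) := by
  set φ : MvPolynomial (Fin n) k →ₐ[k] k ⊗[V] R := aeval (fun i => (1 : k) ⊗ₜ[V] b i)
  let S : Subalgebra V R := (φ.range.restrictScalars V).comap Algebra.TensorProduct.includeRight
  have hS : S = ⊤ := hb S fun i => ⟨X i, aeval_X _ i⟩
  have hr : ∀ r : R, (1 : k) ⊗ₜ[V] r ∈ φ.range := fun r => by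
    have h1 : r ∈ S := by rw [hS]; trivial
    exact h1
  intro y
  change y ∈ φ.range
  induction y using TensorProduct.induction_on with
  | zero => exact zero_mem _
  | add a b ha hb => exact add_mem ha hb
  | tmul a r =>
    have h1 : a ⊗ₜ[V] r = a • ((1 : k) ⊗ₜ[V] r) := by rw [smul_tmul', smul_eq_mul, mul_one]
    rw [h1]
    exact Subalgebra.smul_mem _ (hr r) a

theorem finite_of_isIntegral {k : Type u} [Field k] {B : Type v} [CommRing B] [Algebra k B]
    [Algebra.FiniteType k B] {n : ℕ} (φ : MvPolynomial (Fin n) k →ₐ[k] B)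
    (h : φ.toRingHom.IsIntegral) : φ.toRingHom.Finite := by
  have h1 : algebraMap k B = φ.toRingHom.comp (algebraMap k (MvPolynomial (Fin n) k)) := by
    ext x
    exact (φ.commutes x).symm
  have h2 : (algebraMap k B).FiniteType := RingHom.finiteType_algebraMap.mpr inferInstance
  rw [h1] at h2
  exact h.to_finite h2.of_comp_finiteType

end K85.NoetherPow
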