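import Groth.Agent.Ega41.SplitSpread
import Mathlib.Algebra.Module.FinitePresentation
import Mathlib.RingTheory.LocalRing.Module
import Mathlib.RingTheory.LocalRing.ResidueField.Ideal
import Mathlib.LinearAlgebra.TensorProduct.RightExactness
import Mathlib.RingTheory.Localization.Module

/-!
# Splittings up to a multiplier `s ∉ p`

* `exists_section` : a surjection `g : N → P` of modules with `P_p` projective has a section up to a
  multiplier `s ∉ p`.
* `projective_of_section` : converse.
* `lTensor_injective_of_retraction`, `exact_lTensor_ker`.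
-/

set_option autoImplicit false
universe u v w

namespace K85.SplitLoc

open TensorProduct

variable {A : Type u} [CommRing A]

theorem map_mkLinearMap (S : Submonoid A) {N : Type v} {P : Type w} [AddCommGroup N] [Module A N]
    [AddCommGroup P] [Module A P] (g : N →ₗ[A] P) (y : N) :
    LocalizedModule.map S g (LocalizedModule.mkLinearMap S N y) =
      LocalizedModule.mkLinearMap S P (g y) :=
  IsLocalizedModule.map_apply S (LocalizedModule.mkLinearMap S N) (LocalizedModule.mkLinearMap S P) g y

/-- A surjection `g : N → P`, `P` finitely presented with `S⁻¹P` projective, has a section up to a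
multiplier in `S`. -/
theorem exists_section (S : Submonoid A) {N : Type v} {P : Type w} [AddCommGroup N] [Module A N]
    [AddCommGroup P] [Module A P] [Module.FinitePresentation A P] (g : N →ₗ[A] P)
    (hg : Function.Surjective g) (h : Module.Projective (Localization S) (LocalizedModule S P)) :
    ∃ s ∈ S, ∃ σ : P →ₗ[A] N, g ∘ₗ σ = s • LinearMap.id := by
  have hsurj : Function.Surjective (LocalizedModule.map S g) :=
    IsLocalizedModule.map_surjective S (LocalizedModule.mkLinearMap S N)
      (LocalizedModule.mkLinearMap S P) g hg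
  obtain ⟨σ', hσ'⟩ := Module.projective_lifting_property (LocalizedModule.map S g) LinearMap.id hsurj
  obtain ⟨h', s, hs⟩ := Module.FinitePresentation.exists_lift_of_isLocalizedModule S
    (LocalizedModule.mkLinearMap S N)
    ((σ'.restrictScalars A) ∘ₗ (LocalizedModule.mkLinearMap S P))
  have h1 : (LocalizedModule.mkLinearMap S P) ∘ₗ (g ∘ₗ h') =
      (LocalizedModule.mkLinearMap S P) ∘ₗ ((s : A) • LinearMap.id) := by
    ext x
    have h2 : LocalizedModule.mkLinearMap S N (h' x) =
        (s : A) • σ' (LocalizedModule.mkLinearMap S P x) := LinearMap.congr_fun hs x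
    have h4 := LinearMap.congr_fun hσ' (LocalizedModule.mkLinearMap S P x)
    simp only [LinearMap.comp_apply, LinearMap.smul_apply, LinearMap.id_apply] at h4 ⊢
    rw [← map_mkLinearMap, h2, LinearMap.map_smul_of_tower, h4, map_smul]
  obtain ⟨t, ht⟩ := Module.Finite.exists_smul_of_comp_eq_of_isLocalizedModule S
    (LocalizedModule.mkLinearMap S P) _ _ h1
  refine ⟨t * s, (t * s).2, (t : A) • h', ?_⟩
  ext x
  have := LinearMap.congr_fun ht x
  simp only [LinearMap.smul_apply, LinearMap.comp_apply, LinearMap.id_apply, map_smul] at this ⊢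
  rw [mul_smul]
  exact this

/-- If `g ∘ σ = s • id` with `s ∈ S` then `S⁻¹P` is projective when `S⁻¹N` is. -/
theorem projective_of_section (S : Submonoid A) {N : Type v} {P : Type w} [AddCommGroup N] [Module A N]
    [AddCommGroup P] [Module A P] (g : N →ₗ[A] P) (σ : P →ₗ[A] N) (s : A) (hs : s ∈ S)
    (h : g ∘ₗ σ = s • LinearMap.id)
    [Module.Projective (Localization S) (LocalizedModule S N)] :
    Module.Projective (Localization S) (LocalizedModule S P) := by
  let u : Localization S := IsLocalization.mk' (Localization S) 1 (⟨s, hs⟩ : S)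
  have hu : u * algebraMap A (Localization S) s = 1 := by
    rw [mul_comm, IsLocalization.mul_mk'_eq_mk'_of_mul, mul_one]
    exact IsLocalization.mk'_self _ hs
  refine Module.Projective.of_split (P := LocalizedModule S P) (M := LocalizedModule S N)
    (u • LocalizedModule.map S σ) (LocalizedModule.map S g) ?_
  have h1 : (LocalizedModule.map S g) ∘ₗ (LocalizedModule.map S σ) =
      algebraMap A (Localization S) s • LinearMap.id := by
    apply LinearMap.restrictScalars_injective A
    apply IsLocalizedModule.linearMap_ext S (LocalizedModule.mkLinearMap S P)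
      (LocalizedModule.mkLinearMap S P)
    ext x
    have h2 := LinearMap.congr_fun h x
    simp only [LinearMap.comp_apply, LinearMap.smul_apply, LinearMap.id_apply] at h2
    simp only [LinearMap.comp_apply, LinearMap.restrictScalars_apply, LinearMap.smul_apply,
      LinearMap.id_apply, map_mkLinearMap, h2, map_smul, algebraMap_smul]
  rw [LinearMap.comp_smul, h1, smul_smul, hu, one_smul]

/-- A retraction up to a multiplier acting injectively. -/
theorem lTensor_injective_of_retraction {X : Type v} {Y : Type w} [AddCommGroup X] [Module A X]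
    [AddCommGroup Y] [Module A Y] (i : X →ₗ[A] Y) (r : Y →ₗ[A] X) (s : A)
    (h : r ∘ₗ i = s • LinearMap.id) (N : Type*) [AddCommGroup N] [Module A N]
    (hs : ∀ x : N ⊗[A] X, s • x = 0 → x = 0) : Function.Injective (LinearMap.lTensor N i) := by
  rw [injective_iff_map_eq_zero]
  intro x hx
  apply hs
  have h1 : LinearMap.lTensor N r (LinearMap.lTensor N i x) = s • x := by
    rw [← LinearMap.comp_apply, ← LinearMap.lTensor_comp, h, LinearMap.lTensor_smul,
      LinearMap.lTensor_id]
    rfl
  rw [← h1, hx, map_zero]

/-- Exactness of `N ⊗ ker δ → N ⊗ M → N ⊗ F` when `N ⊗ im δ → N ⊗ F` is injective. -/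
theorem exact_lTensor_ker {M F : Type*} [AddCommGroup M] [Module A M] [AddCommGroup F] [Module A F]
    (δ : M →ₗ[A] F) (N : Type*) [AddCommGroup N] [Module A N]
    (h : Function.Injective (LinearMap.lTensor N (LinearMap.range δ).subtype)) :
    Function.Exact (LinearMap.lTensor N (LinearMap.ker δ).subtype) (LinearMap.lTensor N δ) := by
  have h1 : Function.Exact (LinearMap.ker δ).subtype δ.rangeRestrict := by
    intro x
    constructor
    · intro hx
      exact ⟨⟨x, congrArg Subtype.val hx⟩, rfl⟩
    · rintro ⟨y, rfl⟩
      exact Subtype.ext y.2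
  have h2 := lTensor_exact N h1 δ.surjective_rangeRestrict
  have h3 : LinearMap.lTensor N δ = LinearMap.lTensor N (LinearMap.range δ).subtype ∘ₗ
      LinearMap.lTensor N δ.rangeRestrict := by
    rw [← LinearMap.lTensor_comp]
    rfl
  intro x
  rw [← h2 x, h3, LinearMap.comp_apply]
  constructor
  · intro hx
    apply h
    rw [hx, map_zero]
  · intro hx
    rw [hx, map_zero]

/-- The converse of `exact_lTensor_ker`. -/
theorem injective_lTensor_range {M F : Type*} [AddCommGroup M] [Module A M] [AddCommGroup F] [Module A F]
    (δ : M →ₗ[A] F) (N : Type*) [AddCommGroup N] [Module A N]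
    (h : Function.Exact (LinearMap.lTensor N (LinearMap.ker δ).subtype) (LinearMap.lTensor N δ)) :
    Function.Injective (LinearMap.lTensor N (LinearMap.range δ).subtype) := by
  rw [injective_iff_map_eq_zero]
  intro y hy
  obtain ⟨m, rfl⟩ := LinearMap.lTensor_surjective N δ.surjective_rangeRestrict y
  have h3 : LinearMap.lTensor N δ = LinearMap.lTensor N (LinearMap.range δ).subtype ∘ₗ
      LinearMap.lTensor N δ.rangeRestrict := by
    rw [← LinearMap.lTensor_comp]
    rfl
  have h4 : LinearMap.lTensor N δ m = 0 := by rw [h3]; exact hy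
  obtain ⟨k, rfl⟩ := (h m).1 h4
  rw [← LinearMap.comp_apply, ← LinearMap.lTensor_comp]
  have h5 : δ.rangeRestrict ∘ₗ (LinearMap.ker δ).subtype = 0 := by
    ext x
    exact x.2
  rw [h5, LinearMap.lTensor_zero]
  rfl

/-- From a section up to `s` of `F → F / I`, a retraction up to `s` of `I → F`. -/
theorem exists_retraction_of_section {F : Type*} [AddCommGroup F] [Module A F] (I : Submodule A F)
    (s : A) (σ : (F ⧸ I) →ₗ[A] F) (h : I.mkQ ∘ₗ σ = s • LinearMap.id) :
    ∃ r : F →ₗ[A] I, r ∘ₗ I.subtype = s • LinearMap.id := by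
  refine ⟨LinearMap.codRestrict I (s • LinearMap.id - σ ∘ₗ I.mkQ) ?_, ?_⟩
  · intro x
    suffices H : I.mkQ ((s • LinearMap.id - σ ∘ₗ I.mkQ : F →ₗ[A] F) x) = 0 by
      rwa [Submodule.mkQ_apply, Submodule.Quotient.mk_eq_zero] at H
    have := LinearMap.congr_fun h (I.mkQ x)
    simp only [LinearMap.comp_apply, LinearMap.smul_apply, LinearMap.id_apply] at this
    simp only [LinearMap.sub_apply, LinearMap.smul_apply, LinearMap.id_apply, LinearMap.comp_apply,
      map_sub, map_smul, this, sub_self]
  · ext x
    have : I.mkQ (x : F) = 0 := by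
      rw [Submodule.mkQ_apply, Submodule.Quotient.mk_eq_zero]; exact x.2
    simp [this]

/-- From a section up to `t` of `M → im δ`, a retraction up to `t` of `ker δ → M`. -/
theorem exists_retraction_ker {M F : Type*} [AddCommGroup M] [Module A M] [AddCommGroup F] [Module A F]
    (δ : M →ₗ[A] F) (t : A) (τ : LinearMap.range δ →ₗ[A] M)
    (h : δ.rangeRestrict ∘ₗ τ = t • LinearMap.id) :
    ∃ r : M →ₗ[A] LinearMap.ker δ, r ∘ₗ (LinearMap.ker δ).subtype = t • LinearMap.id := by
  refine ⟨LinearMap.codRestrict _ (t • LinearMap.id - τ ∘ₗ δ.rangeRestrict) ?_, ?_⟩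
  · intro x
    rw [← LinearMap.ker_rangeRestrict δ, LinearMap.mem_ker]
    have := LinearMap.congr_fun h (δ.rangeRestrict x)
    simp only [LinearMap.comp_apply, LinearMap.smul_apply, LinearMap.id_apply] at this
    simp only [LinearMap.sub_apply, LinearMap.smul_apply, LinearMap.id_apply, LinearMap.comp_apply,
      map_sub, map_smul, this, sub_self]
  · ext x
    have : δ.rangeRestrict (x : M) = 0 := Subtype.ext x.2
    simp [this]

end K85.SplitLoc
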